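import Mathlib

/-! A continuous functor: two presentations of the same morphism through the image of a covering
sieve agree locally on every natural family. -/

set_option linter.style.haveILetI false
set_option autoImplicit false

universe w v₁ u₁

open CategoryTheory CategoryTheory.Limits Opposite

namespace Groth.Agent.FibSiteLib

variable {C : Type u₁} [Category.{v₁} C] {D : Type u₁} [Category.{v₁} D] (u : C ⥤ D)
  {J : GrothendieckTopology C} {K : GrothendieckTopology D} {U : C} (R : Sieve U)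

/-- A member of `R` and a morphism to its image. -/
structure Pt (W : D) : Type (max u₁ v₁) where
  obj : C
  r : obj ⟶ U
  mem : R r
  h : W ⟶ u.obj obj

/-- The generating relation. -/
inductive PtRel (W : D) : Pt u R W → Pt u R W → Prop
  | step {U' U'' : C} (r : U' ⟶ U) (hr : R r) (g : U'' ⟶ U') (h : W ⟶ u.obj U'') :
      PtRel W ⟨U'', g ≫ r, R.downward_closed hr g, h⟩ ⟨U', r, hr, h ≫ u.map g⟩

/-- Presentations up to the generated equivalence. -/
def PtQuot : Dᵒᵖ ⥤ Type (max u₁ v₁) where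
  obj W := Quot (PtRel u R W.unop)
  map {W W'} k := TypeCat.ofHom (Quot.map (fun p => ⟨p.obj, p.r, p.mem, k.unop ≫ p.h⟩) (by
    rintro _ _ ⟨r, hr, g, h⟩
    simpa only [← Category.assoc] using PtRel.step r hr g (k.unop ≫ h)))
  map_id W := by
    ext x
    induction x using Quot.ind
    simp [Quot.map]
  map_comp f g := by
    ext x
    induction x using Quot.ind
    simp [Quot.map]

theorem locally_eq_of_isContinuous [u.IsContinuous J K] (hR : R ∈ J U) (P : Dᵒᵖ ⥤ Type w)
    (x : ∀ ⦃U' : C⦄ (r : U' ⟶ U), R r → P.obj (op (u.obj U')))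
    (hx : ∀ ⦃U' U'' : C⦄ (g : U'' ⟶ U') (r : U' ⟶ U) (hr : R r),
      P.map (u.map g).op (x r hr) = x (g ≫ r) (R.downward_closed hr g))
    {W : D} {U₁ U₂ : C} (r₁ : U₁ ⟶ U) (hr₁ : R r₁) (h₁ : W ⟶ u.obj U₁)
    (r₂ : U₂ ⟶ U) (hr₂ : R r₂) (h₂ : W ⟶ u.obj U₂)
    (e : h₁ ≫ u.map r₁ = h₂ ≫ u.map r₂) :
    ∃ Z ∈ K W, ∀ ⦃W' : D⦄ (k : W' ⟶ W), Z k →
      P.map (k ≫ h₁).op (x r₁ hr₁) = P.map (k ≫ h₂).op (x r₂ hr₂) := by
  let Q := PtQuot u R
  let G := (presheafToSheaf K (Type (max u₁ v₁))).obj Q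
  let η : Q ⟶ G.obj := toSheafify K Q
  let y : Presieve.FamilyOfElements (u.op ⋙ G.obj) R.arrows := fun U' r hr =>
    η.app (op (u.obj U')) (Quot.mk _ ⟨U', r, hr, 𝟙 _⟩)
  have hy : y.Compatible := by
    rw [Presieve.compatible_iff_sieveCompatible]
    intro U' U'' r g hr
    refine Eq.trans ?_ (NatTrans.naturality_apply η (u.map g).op _)
    refine congrArg (η.app _) ?_
    change _ = Quot.mk _ _
    refine (Quot.sound ?_)
    simpa using PtRel.step r hr g (𝟙 (u.obj U''))
  obtain ⟨Y, hY, -⟩ := u.op_comp_isSheaf_of_types J K G R hR y hy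
  have key : ∀ {U' : C} (r : U' ⟶ U) (hr : R r) (h : W ⟶ u.obj U'),
      η.app (op W) (Quot.mk _ ⟨U', r, hr, h⟩) = G.obj.map (h ≫ u.map r).op Y := by
    intro U' r hr h
    rw [op_comp, Functor.map_comp_apply]
    refine Eq.trans ?_ (congrArg (G.obj.map h.op) (hY r hr).symm)
    refine Eq.trans ?_ (NatTrans.naturality_apply η h.op _)
    refine congrArg (η.app _) ?_
    change _ = Quot.mk _ _
    simp
  have heq : η.app (op W) (Quot.mk _ ⟨U₁, r₁, hr₁, h₁⟩) =
      η.app (op W) (Quot.mk _ ⟨U₂, r₂, hr₂, h₂⟩) := by rw [key, key, e]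
  refine ⟨_, Presheaf.equalizerSieve_mem K η _ _ heq, fun W' k hk => ?_⟩
  exact congrArg (Quot.lift (fun p : Pt u R W' => P.map p.h.op (x p.r p.mem)) (by
    rintro _ _ ⟨r, hr, g, h⟩
    change P.map h.op _ = P.map (h ≫ u.map g).op _
    rw [op_comp, Functor.map_comp_apply, hx])) hk

end Groth.Agent.FibSiteLib
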