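import Groth.Agent.FibSiteLib.Basic
import Groth.Agent.FibSiteLib.Zigzag

/-! Sheaves on the total site of a pre-fibred site are the presheaves whose restrictions to the
fibres are sheaves. -/

set_option backward.isDefEq.respectTransparency false
set_option backward.isDefEq.respectTransparency.types false
set_option linter.style.haveILetI false
set_option autoImplicit false

universe w' w v₂ u₂ v₁ u₁ v₃ u₃

open CategoryTheory CategoryTheory.Limits Opposite Pseudofunctor Pseudofunctor.CoGrothendieck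

namespace Groth.Agent.FibSiteLib

variable {𝒮 : Type u₁} [Category.{v₁} 𝒮] {F : Pseudofunctor (LocallyDiscrete 𝒮ᵒᵖ) Cat.{v₂, u₂}}
  {J : FibSite.Topologies F}

theorem mkHom_eq_iff {R S : 𝒮} {V : F.obj ⟨op R⟩} {U : F.obj ⟨op S⟩} {f : R ⟶ S}
    {v v' : V ⟶ (FibSite.invImage F f).obj U} (h : mkHom f v = mkHom f v') : v = v' :=
  (CoGrothendieck.Hom.congr h).trans (Category.comp_id _)

theorem map_map {E : Type u₃} [Category.{v₃} E] (P : Eᵒᵖ ⥤ Type w) {X Y Z : E} (f : Y ⟶ X)
    (g : Z ⟶ Y) (x : P.obj (op X)) : P.map g.op (P.map f.op x) = P.map (g ≫ f).op x :=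
  (Functor.map_comp_apply P f.op g.op x).symm

section
variable (hF : FibSite.IsPreFibSite F J) {P : (∫ᶜ F)ᵒᵖ ⥤ Type w}
include hF

theorem isSheaf_of_fibres (h : ∀ S, Presieve.IsSheaf (J S) ((ι F S).op ⋙ P)) :
    Presieve.IsSheaf (FibSite.totalTopology F J) P := by
  intro X S hS x hx
  have hR := (mem_totalTopology_iff hF S).1 hS
  rw [Presieve.compatible_iff_sieveCompatible] at hx
  let xR : Presieve.FamilyOfElements ((ι F X.base).op ⋙ P)
      (S.functorPullback (ι F X.base)).arrows := fun W r hr => x ((ι F X.base).map r) hr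
  have hxR : xR.Compatible := by
    rw [Presieve.compatible_iff_sieveCompatible]
    intro W W' r g hr
    change x ((ι F X.base).map (g ≫ r)) _ = P.map ((ι F X.base).map g).op (x _ hr)
    rw [← hx]
    congr 1
    exact (ι F X.base).map_comp g r
  obtain ⟨y, hy, huniq⟩ := h X.base _ hR xR hxR
  refine ⟨y, fun Y φ hφ => ?_, fun z hz => huniq z fun W r hr => hz _ hr⟩
  obtain ⟨Z, hZ, hfac⟩ := exists_cover_factor hF φ.base φ.fiber hR
  refine ((h Y.base).isSeparated _ hZ).ext fun W w hw => ?_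
  obtain ⟨U', r, k, hr, e⟩ := hfac w hw
  have e' : (ι F Y.base).map w ≫ φ = mkHom φ.base k ≫ (ι F X.base).map r := e
  calc P.map ((ι F Y.base).map w).op (P.map φ.op y)
      = P.map ((ι F Y.base).map w ≫ φ).op y := map_map P φ _ y
    _ = P.map (mkHom φ.base k ≫ (ι F X.base).map r).op y := congrArg (fun t => P.map t.op y) e'
    _ = P.map (mkHom φ.base k).op (P.map ((ι F X.base).map r).op y) := (map_map P _ _ y).symm
    _ = P.map (mkHom φ.base k).op (x _ hr) := congrArg _ (hy r hr)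
    _ = x (mkHom φ.base k ≫ (ι F X.base).map r) (S.downward_closed hr _) := (hx _ _ hr).symm
    _ = x ((ι F Y.base).map w ≫ φ) (S.downward_closed hφ _) := by congr 1; exact e'.symm
    _ = P.map ((ι F Y.base).map w).op (x φ hφ) := hx φ _ hφ

theorem isSheaf_ι_op_comp (hP : Presieve.IsSheaf (FibSite.totalTopology F J) P) (S : 𝒮) :
    Presieve.IsSheaf (J S) ((ι F S).op ⋙ P) := by
  intro U R hR x hx
  rw [Presieve.compatible_iff_sieveCompatible] at hx
  have hT := FibSite.functorPushforward_mem_totalTopology (F := F) hR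
  have wd : ∀ {X : ∫ᶜ F} {U₁ U₂ : F.obj ⟨op S⟩} (r₁ : U₁ ⟶ U) (hr₁ : R r₁)
      (g₁ : X ⟶ (ι F S).obj U₁) (r₂ : U₂ ⟶ U) (hr₂ : R r₂) (g₂ : X ⟶ (ι F S).obj U₂),
      g₁ ≫ (ι F S).map r₁ = g₂ ≫ (ι F S).map r₂ →
      P.map g₁.op (x r₁ hr₁) = P.map g₂.op (x r₂ hr₂) := by
    rintro ⟨B, V⟩ U₁ U₂ r₁ hr₁ ⟨f, v₁⟩ r₂ hr₂ ⟨f', v₂⟩ e
    obtain rfl : f = f' :=
      ((Category.comp_id f).symm.trans (congrArg CoGrothendieck.Hom.base e)).trans
        (Category.comp_id f')
    have e' := ((mkHom_comp_ι f v₁ r₁).symm.trans e).trans (mkHom_comp_ι f v₂ r₂)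
    haveI : (FibSite.invImage F f).IsContinuous (J S) (J B) := hF f
    obtain ⟨Z, hZ, hloc⟩ := locally_eq_of_isContinuous (FibSite.invImage F f) (J := J S) (K := J B)
      R hR ((ι F B).op ⋙ P)
      (fun U' r hr => P.map (mkHom f (𝟙 ((FibSite.invImage F f).obj U'))).op (x r hr))
      (fun U' U'' g r hr => by
        have hg : x (g ≫ r) (R.downward_closed hr g) = P.map ((ι F S).map g).op (x r hr) :=
          hx r g hr
        change P.map _ (P.map _ _) = P.map _ _
        rw [hg]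
        refine (Functor.map_comp_apply P _ _ _).symm.trans
          (Eq.trans ?_ (Functor.map_comp_apply P _ _ _))
        refine congrArg (fun t => P.map t (x r hr)) ?_
        change ((ι F B).map ((FibSite.invImage F f).map g) ≫ mkHom f (𝟙 _)).op =
          (mkHom f (𝟙 _) ≫ (ι F S).map g).op
        refine congrArg Quiver.Hom.op ?_
        refine (ι_comp_mkHom f _ _).trans (Eq.trans ?_ (mkHom_comp_ι f _ g).symm)
        simp)
      r₁ hr₁ v₁ r₂ hr₂ v₂ (mkHom_eq_iff e')
    refine (hP.isSeparated _ (FibSite.functorPushforward_mem_totalTopology (F := F) hZ)).ext ?_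
    rintro Y φ ⟨W, w, m, hw, rfl⟩
    rw [op_comp, Functor.map_comp_apply, Functor.map_comp_apply]
    refine congrArg (P.map m.op) ?_
    have hl := hloc w hw
    change P.map ((ι F B).map (w ≫ v₁)).op (P.map _ _) =
      P.map ((ι F B).map (w ≫ v₂)).op (P.map _ _) at hl
    have k : ∀ {U' : F.obj ⟨op S⟩} (v : V ⟶ (FibSite.invImage F f).obj U'),
        (ι F B).map w ≫ mkHom f v = (ι F B).map (w ≫ v) ≫ mkHom f (𝟙 _) := fun v => by
      rw [ι_comp_mkHom, ι_comp_mkHom, Category.comp_id]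
    have k₁ := ((map_map P (mkHom f v₁) ((ι F B).map w) (x r₁ hr₁)).trans
      (congrArg (fun t => P.map t.op (x r₁ hr₁)) (k v₁))).trans (map_map P _ _ _).symm
    have k₂ := ((map_map P (mkHom f v₂) ((ι F B).map w) (x r₂ hr₂)).trans
      (congrArg (fun t => P.map t.op (x r₂ hr₂)) (k v₂))).trans (map_map P _ _ _).symm
    exact (k₁.trans hl).trans k₂.symm
  let y : Presieve.FamilyOfElements P (R.functorPushforward (ι F S)).arrows := fun X φ hφ =>
    P.map hφ.choose_spec.choose_spec.choose.op (x hφ.choose_spec.choose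
      hφ.choose_spec.choose_spec.choose_spec.1)
  have hyval : ∀ {X : ∫ᶜ F} {U' : F.obj ⟨op S⟩} (r : U' ⟶ U) (hr : R r)
      (g : X ⟶ (ι F S).obj U') (φ : X ⟶ (ι F S).obj U) (hφ : R.functorPushforward (ι F S) φ)
      (_ : φ = g ≫ (ι F S).map r), y φ hφ = P.map g.op (x r hr) := by
    intro X U' r hr g φ hφ e
    exact wd _ hφ.choose_spec.choose_spec.choose_spec.1 _ r hr g
      (hφ.choose_spec.choose_spec.choose_spec.2.symm.trans e)
  have hyc : y.Compatible := by
    rw [Presieve.compatible_iff_sieveCompatible]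
    intro X X' φ g hφ
    obtain ⟨U', r, m, hr, e⟩ := id hφ
    rw [hyval r hr m φ hφ e, ← Functor.map_comp_apply, ← op_comp]
    exact hyval r hr (g ≫ m) (g ≫ φ) _ (by rw [e, Category.assoc])
  obtain ⟨a, ha, huniq⟩ := hP _ hT y hyc
  refine ⟨a, fun U' r hr => ?_, fun b hb => huniq b fun X φ hφ => ?_⟩
  · refine (ha ((ι F S).map r) ⟨U', r, 𝟙 _, hr, (Category.id_comp _).symm⟩).trans ?_
    rw [hyval r hr (𝟙 _) _ _ (Category.id_comp _).symm, op_id, Functor.map_id_apply]
  · obtain ⟨U', r, m, hr, e⟩ := id hφ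
    rw [hyval r hr m φ hφ e, e, op_comp, Functor.map_comp_apply]
    exact congrArg (P.map m.op) (hb r hr)

theorem isSheaf_totalTopology_iff (P : (∫ᶜ F)ᵒᵖ ⥤ Type w') :
    Presieve.IsSheaf (FibSite.totalTopology F J) P ↔
      ∀ S, Presieve.IsSheaf (J S) ((ι F S).op ⋙ P) :=
  ⟨fun hP S => isSheaf_ι_op_comp hF hP S, isSheaf_of_fibres hF⟩

theorem presheaf_isSheaf_totalTopology_iff {A : Type u₃} [Category.{v₃} A]
    (P : (∫ᶜ F)ᵒᵖ ⥤ A) :
    Presheaf.IsSheaf (FibSite.totalTopology F J) P ↔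
      ∀ S, Presheaf.IsSheaf (J S) ((ι F S).op ⋙ P) :=
  ⟨fun h S E => (isSheaf_totalTopology_iff hF _).1 (h E) S,
    fun h E => (isSheaf_totalTopology_iff hF _).2 fun S => h S E⟩

theorem isContinuous_ι (S : 𝒮) : (ι F S).IsContinuous (J S) (FibSite.totalTopology F J) :=
  ⟨fun G => isSheaf_ι_op_comp hF ((isSheaf_iff_isSheaf_of_type _ _).1 G.property) S⟩

theorem inducedTopology_ι (S : 𝒮) :
    (ι F S).inducedTopology (FibSite.totalTopology F J) = J S := by
  haveI := isContinuous_ι hF S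
  refine le_antisymm (fun U R hR => ?_) (Functor.le_inducedTopology_iff.2 inferInstance)
  have h := (mem_totalTopology_iff hF _).1
    ((CoverPreserving.of_isContinuous (ι F S) _ (FibSite.totalTopology F J)).cover_preserve hR)
  have hh : (R.functorPushforward (ι F S)).functorPullback (ι F S) ∈ J S U := h
  rwa [functorPullback_functorPushforward] at hh

theorem isContinuous_total_iff {D : Type u₃} [Category.{v₃} D] (K : GrothendieckTopology D)
    (m : ∫ᶜ F ⥤ D) :
    m.IsContinuous (FibSite.totalTopology F J) K ↔ ∀ S, (ι F S ⋙ m).IsContinuous (J S) K := by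
  refine ⟨fun h S => ?_, fun h => ⟨fun G => isSheaf_of_fibres hF fun S => ?_⟩⟩
  · haveI := h
    haveI := isContinuous_ι hF S
    exact Functor.isContinuous_comp _ _ _ (FibSite.totalTopology F J) _
  · haveI := h S
    exact (ι F S ⋙ m).op_comp_isSheaf_of_types (J S) K G

end
end Groth.Agent.FibSiteLib
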