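import Groth.Agent.FibSiteLib.Sheaf

/-! Right Kan extensions along fibre inclusions are products over the base morphisms. -/

set_option backward.isDefEq.respectTransparency false
set_option backward.isDefEq.respectTransparency.types false
set_option linter.style.haveILetI false
set_option autoImplicit false

universe u

open CategoryTheory CategoryTheory.Limits Opposite Pseudofunctor Pseudofunctor.CoGrothendieck

namespace Groth.Agent.FibSiteLib

variable {𝒮 : Type u} [SmallCategory 𝒮] {F : Pseudofunctor (LocallyDiscrete 𝒮ᵒᵖ) Cat.{u, u}}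
  {i : 𝒮}

/-- The right Kan extension of presheaves along the fibre inclusion. -/
noncomputable abbrev ranι (a : (F.obj ⟨op i⟩)ᵒᵖ ⥤ Type u) : (∫ᶜ F)ᵒᵖ ⥤ Type u :=
  (ι F i).op.ran.obj a

/-- Evaluation of a section of the right Kan extension at a morphism from the fibre. -/
noncomputable def ranEval {a : (F.obj ⟨op i⟩)ᵒᵖ ⥤ Type u} {X : ∫ᶜ F} {U : F.obj ⟨op i⟩}
    (h : (ι F i).obj U ⟶ X) (s : (ranι a).obj (op X)) : a.obj (op U) :=
  ((ι F i).op.ranCounit.app a).app (op U) ((ranι a).map h.op s)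

theorem ranEval_map {a : (F.obj ⟨op i⟩)ᵒᵖ ⥤ Type u} {X Y : ∫ᶜ F} {U : F.obj ⟨op i⟩}
    (h : (ι F i).obj U ⟶ Y) (φ : Y ⟶ X) (s : (ranι a).obj (op X)) :
    ranEval h ((ranι a).map φ.op s) = ranEval (h ≫ φ) s :=
  congrArg _ (map_map (ranι a) φ h s)

theorem ranEval_ι_comp {a : (F.obj ⟨op i⟩)ᵒᵖ ⥤ Type u} {X : ∫ᶜ F} {U U' : F.obj ⟨op i⟩}
    (w : U' ⟶ U) (h : (ι F i).obj U ⟶ X) (s : (ranι a).obj (op X)) :
    ranEval ((ι F i).map w ≫ h) s = a.map w.op (ranEval h s) := by
  refine Eq.trans (congrArg (((ι F i).op.ranCounit.app a).app (op U'))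
    (map_map (ranι a) h ((ι F i).map w) s).symm) ?_
  exact NatTrans.naturality_apply ((ι F i).op.ranCounit.app a) w.op ((ranι a).map h.op s)

theorem ran_ext {a : (F.obj ⟨op i⟩)ᵒᵖ ⥤ Type u} {X : ∫ᶜ F} {s t : (ranι a).obj (op X)}
    (e : ∀ (U : F.obj ⟨op i⟩) (h : (ι F i).obj U ⟶ X), ranEval h s = ranEval h t) : s = t := by
  refine ((ι F i).op.ranObjObjIsoLimit a (op X)).toEquiv.injective (Types.limit_ext _ _ _ fun f => ?_)
  have hs := fun s => ConcreteCategory.congr_hom
    ((ι F i).op.ranObjObjIsoLimit_hom_π a (op X) f) s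
  exact (hs s).trans ((e _ f.hom.unop).trans (hs t).symm)

theorem exists_ran {a : (F.obj ⟨op i⟩)ᵒᵖ ⥤ Type u} {X : ∫ᶜ F}
    (t : ∀ (U : F.obj ⟨op i⟩), ((ι F i).obj U ⟶ X) → a.obj (op U))
    (ht : ∀ ⦃U U' : F.obj ⟨op i⟩⦄ (w : U' ⟶ U) (h : (ι F i).obj U ⟶ X),
      t U' ((ι F i).map w ≫ h) = a.map w.op (t U h)) :
    ∃ s : (ranι a).obj (op X), ∀ U h, ranEval h s = t U h := by
  let l : limit (StructuredArrow.proj (op X) (ι F i).op ⋙ a) :=
    Types.Limit.mk _ (fun f => t f.right.unop f.hom.unop) (fun f g k => by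
      refine (ht k.right.unop f.hom.unop).symm.trans ?_
      refine congrArg (t g.right.unop) ?_
      exact congrArg Quiver.Hom.unop (StructuredArrow.w k))
  refine ⟨((ι F i).op.ranObjObjIsoLimit a (op X)).inv l, fun U h => ?_⟩
  let f : StructuredArrow (op X) (ι F i).op := StructuredArrow.mk (Y := op U) h.op
  exact (ConcreteCategory.congr_hom ((ι F i).op.ranObjObjIsoLimit_inv_π a (op X) f) l).trans
    (Types.Limit.π_mk _ _ _ f)

/-- The component of a section at a base morphism. -/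
noncomputable def ranComp {a : (F.obj ⟨op i⟩)ᵒᵖ ⥤ Type u} {j : 𝒮} (g : i ⟶ j)
    {W : F.obj ⟨op j⟩} (s : (ranι a).obj (op ((ι F j).obj W))) :
    a.obj (op ((FibSite.invImage F g).obj W)) :=
  ranEval (mkHom g (𝟙 _)) s

theorem ranEval_eq_comp {a : (F.obj ⟨op i⟩)ᵒᵖ ⥤ Type u} {j : 𝒮} {g : i ⟶ j}
    {W : F.obj ⟨op j⟩} {U : F.obj ⟨op i⟩} (v : U ⟶ (FibSite.invImage F g).obj W)
    (s : (ranι a).obj (op ((ι F j).obj W))) :
    ranEval (mkHom g v) s = a.map v.op (ranComp g s) := by
  rw [ranComp, ← ranEval_ι_comp, ι_comp_mkHom, Category.comp_id]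

theorem ranComp_natural {a : (F.obj ⟨op i⟩)ᵒᵖ ⥤ Type u} {j : 𝒮} (g : i ⟶ j)
    {W W' : F.obj ⟨op j⟩} (w : W' ⟶ W) (s : (ranι a).obj (op ((ι F j).obj W))) :
    ranComp g ((ranι a).map ((ι F j).map w).op s) =
      a.map ((FibSite.invImage F g).map w).op (ranComp g s) := by
  rw [ranComp, ranEval_map, mkHom_comp_ι, ranEval_eq_comp, Category.id_comp]

theorem bijective_ranComp (a : (F.obj ⟨op i⟩)ᵒᵖ ⥤ Type u) (j : 𝒮) (W : F.obj ⟨op j⟩) :
    Function.Bijective fun (s : (ranι a).obj (op ((ι F j).obj W))) (g : i ⟶ j) => ranComp g s := by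
  refine ⟨fun s t e => ran_ext fun U h => ?_, fun c => ?_⟩
  · obtain ⟨g, v⟩ := h
    exact (ranEval_eq_comp v s).trans
      ((congrArg (a.map v.op) (congrFun e g)).trans (ranEval_eq_comp v t).symm)
  · obtain ⟨s, hs⟩ := exists_ran (a := a) (X := (ι F j).obj W)
      (fun U h => a.map (Quiver.Hom.op (show U ⟶ (FibSite.invImage F h.base).obj W from h.fiber))
        (c h.base))
      (fun U U' w h => by
        obtain ⟨g, v⟩ := h
        have e := congrArg (fun k : (ι F i).obj U' ⟶ (ι F j).obj W =>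
          a.map (Quiver.Hom.op (show U' ⟶ (FibSite.invImage F k.base).obj W from k.fiber))
            (c k.base)) (ι_comp_mkHom g w v)
        exact e.trans (Functor.map_comp_apply a v.op w.op (c g)))
    refine ⟨s, funext fun g => (hs _ _).trans ?_⟩
    exact Functor.map_id_apply a _ (c g)

/-- The fan exhibiting the restriction of a right Kan extension to a fibre as a product. -/
noncomputable def ranFanApp (a : (F.obj ⟨op i⟩)ᵒᵖ ⥤ Type u) (j : 𝒮) (g : i ⟶ j) :
    (ι F j).op ⋙ ranι a ⟶ (FibSite.invImage F g).op ⋙ a where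
  app W := TypeCat.ofHom (ranComp g)
  naturality W W' w := by
    ext s
    exact ranComp_natural g w.unop s

theorem bijective_ranFanApp_lift (a : (F.obj ⟨op i⟩)ᵒᵖ ⥤ Type u) (j : 𝒮)
    (Q : (F.obj ⟨op j⟩)ᵒᵖ ⥤ Type u) :
    Function.Bijective fun (η : Q ⟶ (ι F j).op ⋙ ranι a) (g : i ⟶ j) => η ≫ ranFanApp a j g := by
  refine ⟨fun η η' e => ?_, fun c => ?_⟩
  · ext W q
    exact (bijective_ranComp a j W.unop).1 (funext fun g =>
      ConcreteCategory.congr_hom (NatTrans.congr_app (congrFun e g) W) q)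
  · let e := fun W : F.obj ⟨op j⟩ => Equiv.ofBijective _ (bijective_ranComp a j W)
    refine ⟨{ app := fun W => TypeCat.ofHom fun q => (e W.unop).symm fun g => (c g).app W q
              naturality := fun W W' w => ?_ }, funext fun g => ?_⟩
    · ext q
      refine (e W'.unop).injective (((e W'.unop).apply_symm_apply _).trans (funext fun g => ?_))
      refine (NatTrans.naturality_apply (c g) w q).trans (Eq.symm ?_)
      refine (ranComp_natural g w.unop _).trans (congrArg _ ?_)
      exact congrFun ((e W.unop).apply_symm_apply fun g => (c g).app W q) g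
    · ext W q
      exact congrFun ((e W.unop).apply_symm_apply fun g => (c g).app W q) g

variable {J : FibSite.Topologies F}

theorem exists_fan_coextend (j : 𝒮)
    [∀ S : 𝒮, (ι F S).IsContinuous (J S) (FibSite.totalTopology F J)]
    [(ι F i).IsCocontinuous (J i) (FibSite.totalTopology F J)]
    [∀ (P : (F.obj ⟨op i⟩)ᵒᵖ ⥤ Type u), (ι F i).op.HasPointwiseRightKanExtension P]
    [∀ (R S : 𝒮) (f : R ⟶ S), (FibSite.invImage F f).IsContinuous (J S) (J R)]
    (a : Sheaf (J i) (Type u)) :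
    ∃ c : Fan fun f : i ⟶ j =>
      ((FibSite.invImage F f).sheafPushforwardContinuous (Type u) (J j) (J i)).obj a,
      Nonempty (IsLimit c) ∧
        Nonempty (c.pt ≅ (FibSite.restr F J (Type u) j).obj
          ((FibSite.coextend F J (Type u) i).obj a)) := by
  let P := (FibSite.restr F J (Type u) j).obj ((FibSite.coextend F J (Type u) i).obj a)
  let proj : ∀ f : i ⟶ j, P ⟶
      ((FibSite.invImage F f).sheafPushforwardContinuous (Type u) (J j) (J i)).obj a :=
    fun f => ⟨ranFanApp a.obj j f⟩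
  let e := fun Q : Sheaf (J j) (Type u) =>
    Equiv.ofBijective _ (bijective_ranFanApp_lift a.obj j Q.obj)
  refine ⟨Fan.mk P proj, ⟨Fan.IsLimit.mk _ (fun s => ⟨(e s.pt).symm fun g => (s.proj g).hom⟩)
    (fun s g => ?_) (fun s m hm => ?_)⟩, ⟨Iso.refl _⟩⟩
  · exact InducedCategory.hom_ext (congrFun ((e s.pt).apply_symm_apply fun g => (s.proj g).hom) g)
  · refine InducedCategory.hom_ext ((e s.pt).injective ?_)
    refine Eq.trans ?_ ((e s.pt).apply_symm_apply _).symm
    exact funext fun g => congrArg InducedCategory.Hom.hom (hm g)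

theorem ι_full {i : 𝒮} (hi : IsTerminal i) : (ι F i).Full :=
  ⟨fun h => let ⟨w, hw⟩ := mkHom_one h (hi.hom_ext _ _); ⟨w, hw.symm⟩⟩

theorem ι_faithful (i : 𝒮) : (ι F i).Faithful := ⟨fun h => ι_map_injective h⟩

theorem extend_full_and_faithful (hF : FibSite.IsPreFibSite F J) {i : 𝒮} (hi : IsTerminal i)
    [(ι F i).IsContinuous (J i) (FibSite.totalTopology F J)]
    [((ι F i).sheafPushforwardContinuous (Type u) (J i) (FibSite.totalTopology F J)).IsRightAdjoint] :
    (FibSite.extend F J (Type u) i).Full ∧ (FibSite.extend F J (Type u) i).Faithful := by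
  haveI := ι_full (F := F) hi
  haveI := ι_faithful (F := F) i
  haveI := isCocontinuous_ι hF i
  let t : Adjunction.Triple (FibSite.extend F J (Type u) i) (FibSite.restr F J (Type u) i)
      (FibSite.coextend F J (Type u) i) :=
    ⟨Functor.sheafAdjunctionContinuous _ _ _ _, Functor.sheafAdjunctionCocontinuous _ _ _ _⟩
  haveI : IsIso ((ι F i).op.ranAdjunction (Type u)).counit := by
    rw [Functor.ranAdjunction_counit]; exact NatIso.isIso_of_isIso_app _
  have hran := ((ι F i).op.ranAdjunction (Type u)).fullyFaithfulROfIsIsoCounit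
  let e := (ι F i).sheafPushforwardCocontinuousCompSheafToPresheafIso (Type u) (J i)
    (FibSite.totalTopology F J)
  have h : (FibSite.coextend F J (Type u) i).FullyFaithful :=
    Functor.FullyFaithful.ofCompFaithful (G := sheafToPresheaf _ _)
      (((fullyFaithfulSheafToPresheaf _ _).comp hran).ofIso e.symm)
  have h' := t.fullyFaithfulEquiv.symm h
  exact ⟨h'.full, h'.faithful⟩

end Groth.Agent.FibSiteLib
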