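import Groth.Prelude.Def_FibSite

/-! Elementary identities in the co-Grothendieck construction and the total topology of a
pre-fibred site. -/

set_option backward.isDefEq.respectTransparency false
set_option backward.isDefEq.respectTransparency.types false
set_option linter.style.haveILetI false
set_option autoImplicit false

universe w v₂ u₂ v₁ u₁

open CategoryTheory CategoryTheory.Limits Opposite Pseudofunctor Pseudofunctor.CoGrothendieck

namespace Groth.Agent.FibSiteLib

variable {𝒮 : Type u₁} [Category.{v₁} 𝒮] {F : Pseudofunctor (LocallyDiscrete 𝒮ᵒᵖ) Cat.{v₂, u₂}}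

/-- A morphism of the total category. -/
abbrev mkHom {R S : 𝒮} {V : F.obj ⟨op R⟩} {U : F.obj ⟨op S⟩} (f : R ⟶ S)
    (v : V ⟶ (FibSite.invImage F f).obj U) : (ι F R).obj V ⟶ (ι F S).obj U :=
  ⟨f, v⟩

theorem ι_comp_mkHom {R S : 𝒮} {V V' : F.obj ⟨op R⟩} {U : F.obj ⟨op S⟩} (f : R ⟶ S)
    (w : V' ⟶ V) (v : V ⟶ (FibSite.invImage F f).obj U) :
    (ι F R).map w ≫ mkHom f v = mkHom f (w ≫ v) := by
  have h := CoGrothendieck.Hom.congr (Category.id_comp (mkHom f v))
  refine CoGrothendieck.Hom.ext _ _ (Category.id_comp f) ?_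
  exact (Category.assoc _ _ _).trans ((congrArg (w ≫ ·) h).trans (Category.assoc _ _ _).symm)

theorem mkHom_comp_ι {R S : 𝒮} {V : F.obj ⟨op R⟩} {U U' : F.obj ⟨op S⟩} (f : R ⟶ S)
    (v : V ⟶ (FibSite.invImage F f).obj U) (r : U ⟶ U') :
    mkHom f v ≫ (ι F S).map r = mkHom f (v ≫ (FibSite.invImage F f).map r) := by
  have h := CoGrothendieck.Hom.congr
    (Category.comp_id (mkHom f (𝟙 ((FibSite.invImage F f).obj U'))))
  have h' := ((Category.id_comp _).symm.trans h).trans (Category.id_comp _)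
  refine CoGrothendieck.Hom.ext _ _ (Category.comp_id f) ?_
  refine (congrArg (v ≫ ·) (((congrArg (· ≫ _) (Functor.map_comp _ _ _)).trans
    (Category.assoc _ _ _)).trans (congrArg ((FibSite.invImage F f).map r ≫ ·) h'))).trans ?_
  exact (Category.assoc _ _ _).symm

theorem mkHom_one {S : 𝒮} {V U : F.obj ⟨op S⟩} (h : (ι F S).obj V ⟶ (ι F S).obj U)
    (hb : h.base = 𝟙 S) : ∃ w : V ⟶ U, h = (ι F S).map w := by
  obtain ⟨f, v⟩ := h
  obtain rfl : f = 𝟙 S := hb
  refine ⟨v ≫ (F.mapId ⟨op S⟩).hom.toNatTrans.app U, CoGrothendieck.Hom.ext _ _ rfl ?_⟩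
  simp [← Cat.Hom₂.comp_app]
  exact (Category.comp_id _).symm

theorem ι_map_injective {S : 𝒮} {V U : F.obj ⟨op S⟩} {w w' : V ⟶ U}
    (h : (ι F S).map w = (ι F S).map w') : w = w' := by
  simpa [cancel_mono, ← Cat.Hom.toNatIso_hom, ← Cat.Hom.toNatIso_inv] using
    ((CoGrothendieck.Hom.ext_iff _ _).mp h).2

/-- If `ι w = h ≫ ι r`, then `w` factors through `r`. -/
theorem exists_fac_of_ι_map_eq {S : 𝒮} {W U U' : F.obj ⟨op S⟩} {w : W ⟶ U} {r : U' ⟶ U}
    (h : (ι F S).obj W ⟶ (ι F S).obj U') (e : (ι F S).map w = h ≫ (ι F S).map r) :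
    ∃ k : W ⟶ U', w = k ≫ r := by
  have hb : h.base = 𝟙 S := by
    have hh : (𝟙 S : S ⟶ S) = h.base ≫ 𝟙 S := congrArg CoGrothendieck.Hom.base e
    exact ((Category.comp_id _).symm.trans hh.symm)
  obtain ⟨k, rfl⟩ := mkHom_one h hb
  exact ⟨k, ι_map_injective (e.trans ((ι F S).map_comp k r).symm)⟩

theorem functorPullback_functorPushforward {S : 𝒮} {U : F.obj ⟨op S⟩} (R : Sieve U) :
    (R.functorPushforward (ι F S)).functorPullback (ι F S) = R := by
  refine le_antisymm ?_ (fun W w hw => ⟨W, w, 𝟙 _, hw, (Category.id_comp _).symm⟩)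
  rintro W w ⟨U', r, h, hr, e⟩
  obtain ⟨k, rfl⟩ := exists_fac_of_ι_map_eq h e
  exact R.downward_closed hr k

variable {J : FibSite.Topologies F}

/-- Given a morphism `φ = (f, v)` and a covering sieve `R` upstairs, the members `w` below with
`ι w ≫ φ` factoring through `R` form a covering sieve. -/
theorem exists_cover_factor (hF : FibSite.IsPreFibSite F J) {R S : 𝒮} {V : F.obj ⟨op R⟩}
    {U : F.obj ⟨op S⟩} (f : R ⟶ S) (v : V ⟶ (FibSite.invImage F f).obj U) {T : Sieve U}
    (hT : T ∈ J S U) : ∃ Z ∈ J R V, ∀ ⦃W : F.obj ⟨op R⟩⦄ (w : W ⟶ V), Z w →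
      ∃ (U' : F.obj ⟨op S⟩) (r : U' ⟶ U) (h : W ⟶ (FibSite.invImage F f).obj U'), T r ∧
        (ι F R).map w ≫ mkHom f v = mkHom f h ≫ (ι F S).map r := by
  haveI := hF f
  refine ⟨(T.functorPushforward (FibSite.invImage F f)).pullback v,
    (J R).pullback_stable v
      ((CoverPreserving.of_isContinuous (FibSite.invImage F f) (J S) (J R)).cover_preserve hT),
    fun W w hw => ?_⟩
  obtain ⟨U', r, h, hr, e⟩ := hw
  exact ⟨U', r, h, hr, by rw [ι_comp_mkHom, mkHom_comp_ι, e]⟩

theorem pullback_mem_fibre (hF : FibSite.IsPreFibSite F J) {X Y : ∫ᶜ F} (φ : Y ⟶ X) {S : Sieve X}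
    (hS : S.functorPullback (ι F X.base) ∈ J X.base X.fiber) :
    (S.pullback φ).functorPullback (ι F Y.base) ∈ J Y.base Y.fiber := by
  obtain ⟨Z, hZ, hf⟩ := exists_cover_factor hF φ.base φ.fiber hS
  refine (J Y.base).superset_covering (fun W w hw => ?_) hZ
  obtain ⟨U', r, h, hr, e⟩ := hf w hw
  change S.arrows ((ι F Y.base).map w ≫ mkHom φ.base φ.fiber)
  rw [e]
  exact S.downward_closed hr _

/-- The covering sieves of the total topology. -/
def totalK (hF : FibSite.IsPreFibSite F J) : GrothendieckTopology (∫ᶜ F) where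
  sieves X := {S | S.functorPullback (ι F X.base) ∈ J X.base X.fiber}
  top_mem' X := by
    change (⊤ : Sieve X).functorPullback (ι F X.base) ∈ J X.base X.fiber
    exact (J X.base).superset_covering (fun _ _ _ => trivial) ((J X.base).top_mem _)
  pullback_stable' _ _ _ φ hS := pullback_mem_fibre hF φ hS
  transitive' X S hS T hT := by
    refine (J X.base).transitive hS (T.functorPullback (ι F X.base)) fun W w hw => ?_
    refine (J X.base).superset_covering (fun W' w' hw' => ?_) (hT hw)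
    change T.arrows ((ι F X.base).map (w' ≫ w))
    rw [Functor.map_comp]
    exact hw'

theorem totalTopology_eq (hF : FibSite.IsPreFibSite F J) :
    FibSite.totalTopology F J = totalK hF := by
  refine le_antisymm (FibSite.totalTopology_le fun S U R hR => ?_) fun X S hS => ?_
  · change (R.functorPushforward (ι F S)).functorPullback (ι F S) ∈ J S U
    rwa [functorPullback_functorPushforward]
  · refine (FibSite.totalTopology F J).superset_covering ?_
      (FibSite.functorPushforward_mem_totalTopology hS)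
    exact fun W w ⟨Z, r, h, hr, e⟩ => e ▸ S.downward_closed hr h

theorem mem_totalTopology_iff (hF : FibSite.IsPreFibSite F J) {X : ∫ᶜ F} (S : Sieve X) :
    S ∈ FibSite.totalTopology F J X ↔ S.functorPullback (ι F X.base) ∈ J X.base X.fiber := by
  rw [totalTopology_eq hF]; rfl

theorem isCocontinuous_ι (hF : FibSite.IsPreFibSite F J) (S : 𝒮) :
    (ι F S).IsCocontinuous (J S) (FibSite.totalTopology F J) :=
  ⟨fun {_ _} hT => (mem_totalTopology_iff hF _).1 hT⟩

theorem mem_totalTopology_iff_exists (hF : FibSite.IsPreFibSite F J) {X : ∫ᶜ F} (S : Sieve X) :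
    S ∈ FibSite.totalTopology F J X ↔
      ∃ R ∈ J X.base X.fiber, Sieve.functorPushforward (ι F X.base) R ≤ S := by
  rw [mem_totalTopology_iff hF]
  constructor
  · exact fun h => ⟨_, h, fun W w ⟨Z, r, g, hr, e⟩ => e ▸ S.downward_closed hr g⟩
  · rintro ⟨R, hR, h⟩
    exact (J X.base).superset_covering
      (fun W w hw => h _ ⟨W, w, 𝟙 _, hw, (Category.id_comp _).symm⟩) hR

end Groth.Agent.FibSiteLib
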