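import Mathlib

/-! Adding a fixed summand in a finitary extensive category. -/

set_option linter.style.haveILetI false
set_option autoImplicit false

universe v v' u u'

open CategoryTheory CategoryTheory.Limits

namespace Groth.Agent.FibSiteLib

variable {C : Type u} [Category.{v} C]

theorem mkPullback {P A B X : C} {h : P ⟶ A} {k : P ⟶ B} {f : A ⟶ X} {g : B ⟶ X}
    (w : h ≫ f = k ≫ g)
    (H : ∀ s : PullbackCone f g, ∃ m : s.pt ⟶ P, m ≫ h = s.fst ∧ m ≫ k = s.snd ∧
      ∀ m' : s.pt ⟶ P, m' ≫ h = s.fst → m' ≫ k = s.snd → m' = m) : IsPullback h k f g :=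
  ⟨⟨w⟩, ⟨PullbackCone.isLimitAux' _ fun s => ⟨(H s).choose, (H s).choose_spec.1,
    (H s).choose_spec.2.1, fun {m'} h₁ h₂ => (H s).choose_spec.2.2 m' h₁ h₂⟩⟩⟩

variable [FinitaryExtensive C]

theorem isPullback_inl_map {A B : C} (f : A ⟶ B) (D : C) :
    IsPullback coprod.inl f (coprod.map f (𝟙 D)) coprod.inl :=
  (((BinaryCofan.isVanKampen_iff _).1
    (FinitaryExtensive.vanKampen _ (coprodIsCoprod B D))
    (BinaryCofan.mk (coprod.inl : A ⟶ A ⨿ D) coprod.inr) f (𝟙 D) (coprod.map f (𝟙 D))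
    (coprod.inl_map f (𝟙 D)).symm (coprod.inr_map f (𝟙 D)).symm).1 ⟨coprodIsCoprod A D⟩).1

theorem isPullback_inr_map {A B : C} (f : A ⟶ B) (D : C) :
    IsPullback coprod.inr (𝟙 D) (coprod.map f (𝟙 D)) coprod.inr :=
  (((BinaryCofan.isVanKampen_iff _).1
    (FinitaryExtensive.vanKampen _ (coprodIsCoprod B D))
    (BinaryCofan.mk (coprod.inl : A ⟶ A ⨿ D) coprod.inr) f (𝟙 D) (coprod.map f (𝟙 D))
    (coprod.inl_map f (𝟙 D)).symm (coprod.inr_map f (𝟙 D)).symm).1 ⟨coprodIsCoprod A D⟩).2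

theorem mono_inl (A D : C) : Mono (coprod.inl : A ⟶ A ⨿ D) :=
  FinitaryExtensive.mono_inl_of_isColimit (c := BinaryCofan.mk (coprod.inl : A ⟶ A ⨿ D) coprod.inr)
    (coprodIsCoprod A D)

variable {P A B X : C} {h : P ⟶ A} {k : P ⟶ B} {f : A ⟶ X} {g : B ⟶ X}

theorem coprod_map_isPullback [HasPullbacks C] (sq : IsPullback h k f g) (D : C) :
    IsPullback (coprod.map h (𝟙 D)) (coprod.map k (𝟙 D)) (coprod.map f (𝟙 D))
      (coprod.map g (𝟙 D)) := by
  haveI := mono_inl A D
  haveI := mono_inl B D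
  refine mkPullback (by simp [sq.w]) fun s => ?_
  let z := s.fst ≫ coprod.map f (𝟙 D)
  let iL := IsPullback.of_hasPullback z (coprod.inl : X ⟶ X ⨿ D)
  let iR := IsPullback.of_hasPullback z (coprod.inr : D ⟶ X ⨿ D)
  let c' := BinaryCofan.mk (pullback.fst z (coprod.inl : X ⟶ X ⨿ D))
    (pullback.fst z (coprod.inr : D ⟶ X ⨿ D))
  have hc' : IsColimit c' := (((BinaryCofan.isVanKampen_iff _).1
    (FinitaryExtensive.vanKampen _ (coprodIsCoprod X D))) c' _ _ z iL.w.symm iR.w.symm).2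
      ⟨iL, iR⟩ |>.some
  have hb : s.snd ≫ coprod.map g (𝟙 D) = z := s.condition.symm
  let la := (isPullback_inl_map f D).lift (pullback.fst z coprod.inl ≫ s.fst)
    (pullback.snd z coprod.inl) (by rw [Category.assoc]; exact iL.w)
  let lb := (isPullback_inl_map g D).lift (pullback.fst z coprod.inl ≫ s.snd)
    (pullback.snd z coprod.inl) (by rw [Category.assoc, hb]; exact iL.w)
  have la₂ : la ≫ f = pullback.snd z coprod.inl := IsPullback.lift_snd ..
  have lb₂ : lb ≫ g = pullback.snd z coprod.inl := IsPullback.lift_snd ..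
  have la₁ : la ≫ coprod.inl = pullback.fst z coprod.inl ≫ s.fst := IsPullback.lift_fst ..
  have lb₁ : lb ≫ coprod.inl = pullback.fst z coprod.inl ≫ s.snd := IsPullback.lift_fst ..
  let lp := sq.lift la lb (la₂.trans lb₂.symm)
  have ra : pullback.snd z coprod.inr ≫ coprod.inr = pullback.fst z coprod.inr ≫ s.fst := by
    obtain ⟨l, hl₁, hl₂⟩ := (isPullback_inr_map f D).exists_lift
      (pullback.fst z coprod.inr ≫ s.fst) (pullback.snd z coprod.inr)
      (by rw [Category.assoc]; exact iR.w)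
    rw [Category.comp_id] at hl₂
    rw [← hl₂, hl₁]
  have rb : pullback.snd z coprod.inr ≫ coprod.inr = pullback.fst z coprod.inr ≫ s.snd := by
    obtain ⟨l, hl₁, hl₂⟩ := (isPullback_inr_map g D).exists_lift
      (pullback.fst z coprod.inr ≫ s.snd) (pullback.snd z coprod.inr)
      (by rw [Category.assoc, hb]; exact iR.w)
    rw [Category.comp_id] at hl₂
    rw [← hl₂, hl₁]
  obtain ⟨m, hml, hmr⟩ : ∃ m : s.pt ⟶ P ⨿ D,
      pullback.fst z coprod.inl ≫ m = lp ≫ coprod.inl ∧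
        pullback.fst z coprod.inr ≫ m = pullback.snd z coprod.inr ≫ coprod.inr :=
    let ⟨m, hml, hmr⟩ := BinaryCofan.IsColimit.desc' hc' (lp ≫ coprod.inl)
      (pullback.snd z coprod.inr ≫ coprod.inr)
    ⟨m, hml, hmr⟩
  have e₁ : m ≫ coprod.map h (𝟙 D) = s.fst := by
    refine BinaryCofan.IsColimit.hom_ext hc' ?_ ?_
    · change pullback.fst z coprod.inl ≫ _ = pullback.fst z coprod.inl ≫ _
      rw [reassoc_of% hml, coprod.inl_map, sq.lift_fst_assoc, la₁]
    · change pullback.fst z coprod.inr ≫ _ = pullback.fst z coprod.inr ≫ _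
      rw [reassoc_of% hmr, coprod.inr_map, Category.id_comp, ra]
  have e₂ : m ≫ coprod.map k (𝟙 D) = s.snd := by
    refine BinaryCofan.IsColimit.hom_ext hc' ?_ ?_
    · change pullback.fst z coprod.inl ≫ _ = pullback.fst z coprod.inl ≫ _
      rw [reassoc_of% hml, coprod.inl_map, sq.lift_snd_assoc, lb₁]
    · change pullback.fst z coprod.inr ≫ _ = pullback.fst z coprod.inr ≫ _
      rw [reassoc_of% hmr, coprod.inr_map, Category.id_comp, rb]
  refine ⟨m, e₁, e₂, fun m' he₁ he₂ => ?_⟩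
  change m' ≫ coprod.map h (𝟙 D) = s.fst at he₁
  change m' ≫ coprod.map k (𝟙 D) = s.snd at he₂
  have hz : m' ≫ coprod.map (h ≫ f) (𝟙 D) = z := by
    rw [show z = s.fst ≫ coprod.map f (𝟙 D) from rfl, ← he₁]
    simp
  refine BinaryCofan.IsColimit.hom_ext hc' ?_ ?_
  · change pullback.fst z coprod.inl ≫ _ = pullback.fst z coprod.inl ≫ _
    obtain ⟨n, hn₁, hn₂⟩ := (isPullback_inl_map (h ≫ f) D).exists_lift
      (pullback.fst z coprod.inl ≫ m') (pullback.snd z coprod.inl)
      (by rw [Category.assoc, hz]; exact iL.w)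
    rw [hml, ← hn₁]
    refine congrArg (· ≫ coprod.inl) (sq.hom_ext ?_ ?_)
    · rw [sq.lift_fst, ← cancel_mono (coprod.inl : A ⟶ A ⨿ D), la₁, Category.assoc,
        ← coprod.inl_map h (𝟙 D), reassoc_of% hn₁, he₁]
    · rw [sq.lift_snd, ← cancel_mono (coprod.inl : B ⟶ B ⨿ D), lb₁, Category.assoc,
        ← coprod.inl_map k (𝟙 D), reassoc_of% hn₁, he₂]
  · change pullback.fst z coprod.inr ≫ _ = pullback.fst z coprod.inr ≫ _
    obtain ⟨n, hn₁, hn₂⟩ := (isPullback_inr_map (h ≫ f) D).exists_lift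
      (pullback.fst z coprod.inr ≫ m') (pullback.snd z coprod.inr)
      (by rw [Category.assoc, hz]; exact iR.w)
    rw [Category.comp_id] at hn₂
    rw [hmr, ← hn₁, hn₂]

theorem isPullback_of_coprod_map (w : h ≫ f = k ≫ g) (D : C)
    (sq : IsPullback (coprod.map h (𝟙 D)) (coprod.map k (𝟙 D)) (coprod.map f (𝟙 D))
      (coprod.map g (𝟙 D))) : IsPullback h k f g := by
  haveI := mono_inl A D
  haveI := mono_inl B D
  haveI := mono_inl P D
  refine mkPullback w fun s => ?_
  obtain ⟨m, hm₁, hm₂⟩ := sq.exists_lift (s.fst ≫ coprod.inl) (s.snd ≫ coprod.inl) (by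
    rw [Category.assoc, Category.assoc, coprod.inl_map, coprod.inl_map, reassoc_of% s.condition])
  obtain ⟨n, hn₁, -⟩ := (isPullback_inl_map (h ≫ f) D).exists_lift m (s.fst ≫ f) (by
    rw [← Category.comp_id (𝟙 D), ← coprod.map_map, reassoc_of% hm₁, coprod.inl_map,
      Category.assoc])
  have e₁ : n ≫ h = s.fst := by
    rw [← cancel_mono (coprod.inl : A ⟶ A ⨿ D), Category.assoc, ← coprod.inl_map h (𝟙 D),
      reassoc_of% hn₁, hm₁]
  have e₂ : n ≫ k = s.snd := by
    rw [← cancel_mono (coprod.inl : B ⟶ B ⨿ D), Category.assoc, ← coprod.inl_map k (𝟙 D),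
      reassoc_of% hn₁, hm₂]
  refine ⟨n, e₁, e₂, fun n' h₁ h₂ => ?_⟩
  rw [← cancel_mono (coprod.inl : P ⟶ P ⨿ D)]
  refine sq.hom_ext ?_ ?_
  · simp only [Category.assoc, coprod.inl_map]
    exact (reassoc_of% h₁) coprod.inl |>.trans ((reassoc_of% e₁) coprod.inl).symm
  · simp only [Category.assoc, coprod.inl_map]
    exact (reassoc_of% h₂) coprod.inl |>.trans ((reassoc_of% e₂) coprod.inl).symm

theorem isPullback_of_retract {E : Type u'} [Category.{v'} E] {T Φ : C ⥤ E} (i : T ⟶ Φ)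
    (r : Φ ⟶ T) (hir : i ≫ r = 𝟙 T) (w : h ≫ f = k ≫ g)
    (sq : IsPullback (Φ.map h) (Φ.map k) (Φ.map f) (Φ.map g)) :
    IsPullback (T.map h) (T.map k) (T.map f) (T.map g) := by
  refine mkPullback (by rw [← T.map_comp, w, T.map_comp]) fun s => ?_
  obtain ⟨m, hm₁, hm₂⟩ := sq.exists_lift (s.fst ≫ i.app A) (s.snd ≫ i.app B) (by
    rw [Category.assoc, Category.assoc, ← i.naturality, ← i.naturality,
      reassoc_of% s.condition])
  have e : ∀ Y, i.app Y ≫ r.app Y = 𝟙 (T.obj Y) := fun Y => NatTrans.congr_app hir Y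
  refine ⟨m ≫ r.app P, ?_, ?_, fun m' h₁ h₂ => ?_⟩
  · change (m ≫ r.app P) ≫ T.map h = s.fst
    rw [Category.assoc, ← r.naturality, reassoc_of% hm₁, e, Category.comp_id]
  · change (m ≫ r.app P) ≫ T.map k = s.snd
    rw [Category.assoc, ← r.naturality, reassoc_of% hm₂, e, Category.comp_id]
  · change m' ≫ T.map h = s.fst at h₁
    change m' ≫ T.map k = s.snd at h₂
    have hm : m' ≫ i.app P = m := sq.hom_ext
      (by rw [hm₁, Category.assoc, ← i.naturality, reassoc_of% h₁])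
      (by rw [hm₂, Category.assoc, ← i.naturality, reassoc_of% h₂])
    rw [← hm, Category.assoc, e, Category.comp_id]

theorem preservesPullbacks_of_isPullback {E : Type u'} [Category.{v'} E] [HasPullbacks C]
    (T : C ⥤ E) (H : ∀ {P A B X : C} {h : P ⟶ A} {k : P ⟶ B} {f : A ⟶ X} {g : B ⟶ X},
      IsPullback h k f g → IsPullback (T.map h) (T.map k) (T.map f) (T.map g)) :
    PreservesLimitsOfShape WalkingCospan T := by
  refine ⟨fun {K} => ?_⟩
  haveI : PreservesLimit (cospan (K.map WalkingCospan.Hom.inl) (K.map WalkingCospan.Hom.inr)) T :=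
    preservesLimit_of_preserves_limit_cone (pullbackIsPullback _ _)
      ((isLimitMapConePullbackConeEquiv T pullback.condition).symm
        (H (IsPullback.of_hasPullback _ _)).isLimit)
  exact preservesLimit_of_iso_diagram T (diagramIsoCospan K).symm

end Groth.Agent.FibSiteLib
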