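import Groth.Agent.FibSiteLib.Ran

/-! The values of the extension functor on the fibres. -/

set_option backward.isDefEq.respectTransparency false
set_option backward.isDefEq.respectTransparency.types false
set_option linter.style.haveILetI false
set_option autoImplicit false

universe u

open CategoryTheory CategoryTheory.Limits Opposite Pseudofunctor Pseudofunctor.CoGrothendieck

namespace Groth.Agent.FibSiteLib

variable {𝒮 : Type u} [SmallCategory 𝒮] {F : Pseudofunctor (LocallyDiscrete 𝒮ᵒᵖ) Cat.{u, u}}
  {J : FibSite.Topologies F}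

theorem ranEval_natural {i : 𝒮} {a b : (F.obj ⟨op i⟩)ᵒᵖ ⥤ Type u} (θ : a ⟶ b) {X : ∫ᶜ F}
    {U : F.obj ⟨op i⟩} (h : (ι F i).obj U ⟶ X) (s : (ranι a).obj (op X)) :
    ranEval h (((ι F i).op.ran.map θ).app (op X) s) = θ.app (op U) (ranEval h s) := by
  refine Eq.trans (congrArg (((ι F i).op.ranCounit.app b).app (op U))
    (NatTrans.naturality_apply ((ι F i).op.ran.map θ) h.op s).symm) ?_
  exact ConcreteCategory.congr_hom
    (NatTrans.congr_app ((ι F i).op.ranCounit.naturality θ) (op U)) ((ranι a).map h.op s)

section
variable {i : 𝒮} [(ι F i).IsCocontinuous (J i) (FibSite.totalTopology F J)]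
  (j : 𝒮) [(ι F j).IsContinuous (J j) (FibSite.totalTopology F J)] (g : i ⟶ j)
  [(FibSite.invImage F g).IsContinuous (J j) (J i)]

/-- The projection of the restriction of a coextension at a base morphism. -/
noncomputable def projN :
    FibSite.coextend F J (Type u) i ⋙ FibSite.restr F J (Type u) j ⟶
      (FibSite.invImage F g).sheafPushforwardContinuous (Type u) (J j) (J i) where
  app a := ⟨ranFanApp a.obj j g⟩
  naturality a b θ := by
    ext W s
    exact ranEval_natural θ.hom (mkHom g (𝟙 _)) s

theorem isIso_projN_of_isTerminal (hj : IsTerminal j) : IsIso (projN (J := J) j g) := by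
  haveI : ∀ a, IsIso ((projN (J := J) j g).app a) := fun a => by
    haveI : IsIso ((sheafToPresheaf (J j) (Type u)).map ((projN (J := J) j g).app a)) := by
      haveI : ∀ W, IsIso (((sheafToPresheaf (J j) (Type u)).map
          ((projN (J := J) j g).app a)).app W) := fun W => by
        rw [isIso_iff_bijective]
        refine ⟨fun s t e => (bijective_ranComp a.obj j W.unop).1 (funext fun g' => ?_), fun c => ?_⟩
        · obtain rfl : g' = g := hj.hom_ext _ _
          exact e
        · obtain ⟨s, hs⟩ := (bijective_ranComp a.obj j W.unop).2 fun g' =>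
            (show a.obj.obj (op ((FibSite.invImage F g').obj W.unop)) from
              hj.hom_ext g g' ▸ (c : a.obj.obj (op ((FibSite.invImage F g).obj W.unop))))
          exact ⟨s, (congrFun hs g).trans rfl⟩
      exact NatIso.isIso_of_isIso_app _
    exact isIso_of_reflects_iso _ (sheafToPresheaf (J j) (Type u))
  exact NatIso.isIso_of_isIso_app _

end

section
variable (i j : 𝒮) [∀ S : 𝒮, (ι F S).IsContinuous (J S) (FibSite.totalTopology F J)]
  [(ι F j).IsCocontinuous (J j) (FibSite.totalTopology F J)]
  [((ι F i).sheafPushforwardContinuous (Type u) (J i) (FibSite.totalTopology F J)).IsRightAdjoint]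
  [∀ (R S : 𝒮) (f : R ⟶ S), (FibSite.invImage F f).IsContinuous (J S) (J R)]
  [∀ (R S : 𝒮) (f : R ⟶ S),
    ((FibSite.invImage F f).sheafPushforwardContinuous (Type u) (J S) (J R)).IsRightAdjoint]

/-- The adjunction between extension followed by restriction and coextension followed by
restriction. -/
noncomputable def extRestrAdj :
    FibSite.extend F J (Type u) i ⋙ FibSite.restr F J (Type u) j ⊣
      FibSite.coextend F J (Type u) j ⋙ FibSite.restr F J (Type u) i :=
  ((ι F i).sheafAdjunctionContinuous (Type u) (J i) (FibSite.totalTopology F J)).comp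
    ((ι F j).sheafAdjunctionCocontinuous (Type u) (J j) (FibSite.totalTopology F J))

variable (a : Sheaf (J i) (Type u))

/-- Maps out of the restricted extension as families. -/
noncomputable def extRestrHom (b : Sheaf (J j) (Type u))
    (η : (FibSite.restr F J (Type u) j).obj ((FibSite.extend F J (Type u) i).obj a) ⟶ b)
    (g : j ⟶ i) : ((FibSite.invImage F g).sheafPullback (Type u) (J i) (J j)).obj a ⟶ b :=
  (((FibSite.invImage F g).sheafAdjunctionContinuous (Type u) (J i) (J j)).homEquiv a b).symm
    ((extRestrAdj i j).homEquiv a b η ≫ (projN (i := j) i g).app b)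

theorem bijective_extRestrHom (b : Sheaf (J j) (Type u)) :
    Function.Bijective (extRestrHom i j a b) := by
  have h1 : Function.Bijective fun (θ : a ⟶ (FibSite.coextend F J (Type u) j ⋙
      FibSite.restr F J (Type u) i).obj b) (g : j ⟶ i) => θ ≫ (projN (i := j) i g).app b := by
    obtain ⟨hinj, hsurj⟩ := bijective_ranFanApp_lift b.obj i a.obj
    refine ⟨fun θ θ' e => InducedCategory.hom_ext
      (hinj (funext fun g => congrArg InducedCategory.Hom.hom (congrFun e g))), fun c => ?_⟩
    obtain ⟨θ, hθ⟩ := hsurj fun g => (c g).hom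
    exact ⟨⟨θ⟩, funext fun g => InducedCategory.hom_ext (congrFun hθ g)⟩
  exact ((Equiv.piCongrRight fun g : j ⟶ i =>
    (((FibSite.invImage F g).sheafAdjunctionContinuous (Type u) (J i) (J j)).homEquiv a b).symm)
      |>.bijective).comp (h1.comp ((extRestrAdj i j).homEquiv a b).bijective)

theorem extRestrHom_comp {b b' : Sheaf (J j) (Type u)}
    (η : (FibSite.restr F J (Type u) j).obj ((FibSite.extend F J (Type u) i).obj a) ⟶ b)
    (φ : b ⟶ b') (g : j ⟶ i) :
    extRestrHom i j a b' (η ≫ φ) g = extRestrHom i j a b η g ≫ φ := by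
  rw [extRestrHom, extRestrHom, ← Adjunction.homEquiv_naturality_right_symm]
  refine congrArg _ (Eq.trans ?_ (Category.assoc _ _ _).symm)
  refine Eq.trans ?_ (congrArg ((extRestrAdj i j).homEquiv a b η ≫ ·)
    ((projN (i := j) i g).naturality φ))
  refine Eq.trans ?_ (Category.assoc _ _ _)
  exact congrArg (· ≫ _) ((extRestrAdj i j).homEquiv_naturality_right η φ)

theorem exists_cofan_extend :
    ∃ c : Cofan fun f : j ⟶ i => ((FibSite.invImage F f).sheafPullback (Type u) (J i) (J j)).obj a,
      Nonempty (IsColimit c) ∧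
        Nonempty (c.pt ≅ (FibSite.restr F J (Type u) j).obj
          ((FibSite.extend F J (Type u) i).obj a)) := by
  let X := (FibSite.restr F J (Type u) j).obj ((FibSite.extend F J (Type u) i).obj a)
  have key : ∀ (b : Sheaf (J j) (Type u)) (η : X ⟶ b) (g : j ⟶ i),
      extRestrHom i j a b η g = extRestrHom i j a X (𝟙 X) g ≫ η := fun b η g => by
    rw [← extRestrHom_comp, Category.id_comp]
  let e := fun b => Equiv.ofBijective _ (bijective_extRestrHom i j a b)
  refine ⟨Cofan.mk X fun g => extRestrHom i j a X (𝟙 X) g,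
    ⟨Cofan.IsColimit.mk _ (fun t => (e t.pt).symm t.inj) (fun t g => ?_) (fun t m hm => ?_)⟩,
    ⟨Iso.refl _⟩⟩
  · exact (key _ _ g).symm.trans (congrFun ((e t.pt).apply_symm_apply t.inj) g)
  · refine (e t.pt).injective (Eq.trans ?_ ((e t.pt).apply_symm_apply t.inj).symm)
    exact funext fun g => (key _ m g).trans (hm g)

end

theorem preservesFiniteLimits_of_restr {E : Type (u + 1)} [Category.{u} E] [HasFiniteLimits E]
    [∀ S : 𝒮, (ι F S).IsContinuous (J S) (FibSite.totalTopology F J)]
    (T : E ⥤ FibSite.TotSh F J (Type u))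
    (h : ∀ S : 𝒮, PreservesFiniteLimits (T ⋙ FibSite.restr F J (Type u) S)) :
    PreservesFiniteLimits T := by
  refine ⟨fun K _ _ => ⟨fun {G} => ?_⟩⟩
  haveI : ∀ S : 𝒮, PreservesLimit (G ⋙ T) (FibSite.restr F J (Type u) S) := fun S =>
    haveI : (FibSite.restr F J (Type u) S).IsRightAdjoint := inferInstance
    inferInstance
  haveI : ∀ S : 𝒮, IsIso ((FibSite.restr F J (Type u) S).map (limit.post G T)) := fun S => by
    haveI := h S
    haveI : IsIso (limit.post G (T ⋙ FibSite.restr F J (Type u) S)) := inferInstance
    haveI : IsIso ((FibSite.restr F J (Type u) S).map (limit.post G T) ≫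
        limit.post (G ⋙ T) (FibSite.restr F J (Type u) S)) := by
      rw [limit.post_post]
      exact this
    exact IsIso.of_isIso_comp_right _ (limit.post (G ⋙ T) (FibSite.restr F J (Type u) S))
  haveI : IsIso ((sheafToPresheaf (FibSite.totalTopology F J) (Type u)).map (limit.post G T)) := by
    haveI : ∀ X, IsIso (((sheafToPresheaf (FibSite.totalTopology F J) (Type u)).map
        (limit.post G T)).app X) := fun X => by
      exact inferInstanceAs (IsIso (((sheafToPresheaf (J X.unop.base) (Type u)).map
        ((FibSite.restr F J (Type u) X.unop.base).map (limit.post G T))).app (op X.unop.fiber)))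
    exact NatIso.isIso_of_isIso_app _
  haveI : IsIso (limit.post G T) :=
    isIso_of_reflects_iso _ (sheafToPresheaf (FibSite.totalTopology F J) (Type u))
  exact preservesLimit_of_isIso_post T G

theorem extend_preservesFiniteLimits (hF : FibSite.IsFibSite F J) {i : 𝒮} (hi : IsTerminal i)
    [(ι F i).IsContinuous (J i) (FibSite.totalTopology F J)]
    [((ι F i).sheafPushforwardContinuous (Type u) (J i) (FibSite.totalTopology F J)).IsRightAdjoint] :
    PreservesFiniteLimits (FibSite.extend F J (Type u) i) := by
  haveI := isContinuous_ι (J := J) hF.isPreFibSite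
  haveI : ∀ (R S : 𝒮) (f : R ⟶ S), (FibSite.invImage F f).IsContinuous (J S) (J R) :=
    fun R S f => hF.isPreFibSite f
  haveI : ∀ (R S : 𝒮) (f : R ⟶ S),
      ((FibSite.invImage F f).sheafPushforwardContinuous (Type u) (J S) (J R)).IsRightAdjoint :=
    fun R S f => (hF f).2.1
  refine preservesFiniteLimits_of_restr _ fun S => ?_
  haveI := isCocontinuous_ι hF.isPreFibSite S
  haveI := (hF (hi.from S)).2.2
  haveI := isIso_projN_of_isTerminal (J := J) (i := S) i (hi.from S) hi
  let e := (conjugateIsoEquiv ((FibSite.invImage F (hi.from S)).sheafAdjunctionContinuous (Type u)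
    (J i) (J S)) (extRestrAdj i S)).symm (asIso (projN (J := J) (i := S) i (hi.from S))).symm
  exact preservesFiniteLimits_of_natIso e.symm

end Groth.Agent.FibSiteLib
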