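import Groth.Agent.FibSiteLib.Fam

/-! Cartesian functors between fibred sites. -/

set_option backward.isDefEq.respectTransparency false
set_option backward.isDefEq.respectTransparency.types false
set_option linter.style.haveILetI false
set_option autoImplicit false

universe u

open CategoryTheory CategoryTheory.Limits Opposite Pseudofunctor Pseudofunctor.CoGrothendieck
open scoped CategoryTheory.Pseudofunctor.StrongTrans

namespace Groth.Agent.FibSiteLib

variable {𝒮 : Type u} [SmallCategory 𝒮] {F G : Pseudofunctor (LocallyDiscrete 𝒮ᵒᵖ) Cat.{u, u}}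
  {J : FibSite.Topologies F} {K : FibSite.Topologies G} (α : G ⟶ F)

/-- The fibre functor of a cartesian functor. -/
abbrev fibFun (S : 𝒮) : G.obj ⟨op S⟩ ⥤ F.obj ⟨op S⟩ := (α.app ⟨op S⟩).toFunctor

/-- The naturality isomorphism of a cartesian functor at a base morphism. -/
abbrev natHom {R S : 𝒮} (g : R ⟶ S) (W : G.obj ⟨op S⟩) :
    (fibFun α R).obj ((FibSite.invImage G g).obj W) ⟶
      (FibSite.invImage F g).obj ((fibFun α S).obj W) :=
  (α.naturality g.op.toLoc).hom.toNatTrans.app W

instance {R S : 𝒮} (g : R ⟶ S) (W : G.obj ⟨op S⟩) : IsIso (natHom α g W) :=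
  inferInstanceAs (IsIso ((Cat.Hom.toNatIso (α.naturality g.op.toLoc)).hom.app W))

theorem map_mkHom {R S : 𝒮} {V : G.obj ⟨op R⟩} {W : G.obj ⟨op S⟩} (g : R ⟶ S)
    (v : V ⟶ (FibSite.invImage G g).obj W) :
    (CoGrothendieck.map α).map (mkHom g v) = mkHom g ((fibFun α R).map v ≫ natHom α g W) :=
  rfl

theorem map_ι {S : 𝒮} {V W : G.obj ⟨op S⟩} (w : V ⟶ W) :
    (CoGrothendieck.map α).map ((ι G S).map w) = (ι F S).map ((fibFun α S).map w) := by
  refine CoGrothendieck.Hom.ext _ _ rfl ?_
  have h := CoGrothendieck.Hom.congr ((CoGrothendieck.map α).map_id ((ι G S).obj W))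
  exact ((congrArg (· ≫ _) ((fibFun α S).map_comp _ _)).trans (Category.assoc _ _ _)).trans
    ((congrArg ((fibFun α S).map w ≫ ·) h).trans (Category.assoc _ _ _).symm)

/-- The compatibility of a cartesian functor with the fibre inclusions. -/
noncomputable def mapιIso (S : 𝒮) : ι G S ⋙ CoGrothendieck.map α ≅ fibFun α S ⋙ ι F S :=
  NatIso.ofComponents (fun _ => Iso.refl _) (fun w => by
    refine (Category.comp_id _).trans (Eq.trans ?_ (Category.id_comp _).symm)
    exact map_ι α w)

theorem isContinuous_map (hF : FibSite.IsPreFibSite F J) (hG : FibSite.IsPreFibSite G K)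
    (h : ∀ S : 𝒮, (fibFun α S).IsContinuous (K S) (J S)) :
    (CoGrothendieck.map α).IsContinuous (FibSite.totalTopology G K)
      (FibSite.totalTopology F J) := by
  refine (isContinuous_total_iff hG _ _).2 fun S => ?_
  haveI := h S
  haveI := isContinuous_ι hF S
  haveI := Functor.isContinuous_comp (fibFun α S) (ι F S) (K S) (J S) (FibSite.totalTopology F J)
  exact Functor.isContinuous_of_iso (mapιIso α S).symm (K S) (FibSite.totalTopology F J)

variable {S : 𝒮}

theorem exists_baseChange (a : (F.obj ⟨op S⟩)ᵒᵖ ⥤ Type u) (X : ∫ᶜ G)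
    (s : (ranι a).obj (op ((CoGrothendieck.map α).obj X))) :
    ∃ t : (ranι ((fibFun α S).op ⋙ a)).obj (op X), ∀ (U : G.obj ⟨op S⟩) (h : (ι G S).obj U ⟶ X),
      ranEval h t =
        ranEval (U := (fibFun α S).obj U) ((CoGrothendieck.map α).map h) s :=
  exists_ran (a := (fibFun α S).op ⋙ a)
    (fun U h => ranEval (U := (fibFun α S).obj U) ((CoGrothendieck.map α).map h) s)
    (fun U U' w h => by
      rw [Functor.map_comp, map_ι]
      exact ranEval_ι_comp ((fibFun α S).map w) ((CoGrothendieck.map α).map h) s)

/-- The base change map of presheaves. -/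
noncomputable def baseChangeHom (a : (F.obj ⟨op S⟩)ᵒᵖ ⥤ Type u) :
    (CoGrothendieck.map α).op ⋙ ranι a ⟶ ranι ((fibFun α S).op ⋙ a) where
  app X := TypeCat.ofHom fun s => (exists_baseChange α a X.unop s).choose
  naturality X Y φ := by
    ext s
    refine ran_ext fun U h => ?_
    refine ((exists_baseChange α a Y.unop _).choose_spec U h).trans (Eq.symm ?_)
    refine (ranEval_map h φ.unop _).trans ?_
    refine ((exists_baseChange α a X.unop s).choose_spec U (h ≫ φ.unop)).trans ?_
    rw [Functor.map_comp]
    exact (ranEval_map _ ((CoGrothendieck.map α).map φ.unop) s).symm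

theorem ranEval_baseChangeHom (a : (F.obj ⟨op S⟩)ᵒᵖ ⥤ Type u) {X : ∫ᶜ G}
    {U : G.obj ⟨op S⟩} (h : (ι G S).obj U ⟶ X)
    (s : (ranι a).obj (op ((CoGrothendieck.map α).obj X))) :
    ranEval h ((baseChangeHom α a).app (op X) s) =
      ranEval (U := (fibFun α S).obj U) ((CoGrothendieck.map α).map h) s :=
  (exists_baseChange α a X s).choose_spec U h

theorem baseChangeHom_natural {a b : (F.obj ⟨op S⟩)ᵒᵖ ⥤ Type u} (θ : a ⟶ b) :
    Functor.whiskerLeft (CoGrothendieck.map α).op ((ι F S).op.ran.map θ) ≫ baseChangeHom α b =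
      baseChangeHom α a ≫ (ι G S).op.ran.map (Functor.whiskerLeft (fibFun α S).op θ) := by
  ext X s
  refine ran_ext fun U h => ?_
  refine (ranEval_baseChangeHom α b h _).trans ?_
  refine (ranEval_natural θ _ s).trans (Eq.symm ?_)
  refine (ranEval_natural (Functor.whiskerLeft (fibFun α S).op θ) h _).trans ?_
  exact congrArg _ (ranEval_baseChangeHom α a h s)

theorem isIso_baseChangeHom (a : (F.obj ⟨op S⟩)ᵒᵖ ⥤ Type u) : IsIso (baseChangeHom α a) := by
  haveI : ∀ X, IsIso ((baseChangeHom α a).app X) := fun ⟨⟨j, W⟩⟩ => by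
    rw [isIso_iff_bijective]
    have key : ∀ (s) (g : S ⟶ j),
        ranComp g ((baseChangeHom α a).app (op ((ι G j).obj W)) s) =
          a.map (natHom α g W).op (ranComp (W := (fibFun α j).obj W) g s) := fun s g => by
      refine (ranEval_baseChangeHom α a (mkHom g (𝟙 _)) s).trans ?_
      refine Eq.trans ?_ (ranEval_eq_comp (W := (fibFun α j).obj W) (natHom α g W) s)
      refine congrArg (fun t => ranEval (U := (fibFun α S).obj ((FibSite.invImage G g).obj W)) t s) ?_
      exact (congrArg (fun m => mkHom g (m ≫ natHom α g W)) ((fibFun α S).map_id _)).trans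
        (congrArg (mkHom g) (Category.id_comp _))
    have hb : ∀ g : S ⟶ j, Function.Bijective (a.map (natHom α g W).op) := fun g =>
      (isIso_iff_bijective (a.map (natHom α g W).op)).1 inferInstance
    refine ⟨fun s t e => (bijective_ranComp a j ((fibFun α j).obj W)).1 (funext fun g =>
      (hb g).1 ((key s g).symm.trans ((congrArg _ e).trans (key t g)))), fun c => ?_⟩
    obtain ⟨s, hs⟩ := (bijective_ranComp a j ((fibFun α j).obj W)).2
      fun g => ((hb g).2 (ranComp g c)).choose
    refine ⟨s, (bijective_ranComp ((fibFun α S).op ⋙ a) j W).1 (funext fun g => ?_)⟩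
    exact (key s g).trans ((congrArg _ (congrFun hs g)).trans ((hb g).2 (ranComp g c)).choose_spec)
  exact NatIso.isIso_of_isIso_app _

variable (J K) (S : 𝒮)

/-- Base change for direct images of sheaves. -/
noncomputable def baseChangeIso [(fibFun α S).IsContinuous (K S) (J S)]
    [(ι F S).IsCocontinuous (J S) (FibSite.totalTopology F J)]
    [(ι G S).IsCocontinuous (K S) (FibSite.totalTopology G K)]
    [(CoGrothendieck.map α).IsContinuous (FibSite.totalTopology G K) (FibSite.totalTopology F J)] :
    FibSite.coextend F J (Type u) S ⋙ (CoGrothendieck.map α).sheafPushforwardContinuous (Type u)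
        (FibSite.totalTopology G K) (FibSite.totalTopology F J) ≅
      (fibFun α S).sheafPushforwardContinuous (Type u) (K S) (J S) ⋙
        FibSite.coextend G K (Type u) S :=
  NatIso.ofComponents (fun a => (fullyFaithfulSheafToPresheaf _ _).preimageIso
    (haveI := isIso_baseChangeHom α a.obj; asIso (baseChangeHom α a.obj)))
    (fun θ => InducedCategory.hom_ext (baseChangeHom_natural α θ.hom))

/-- Base change for inverse images of sheaves. -/
noncomputable def pullbackRestrIso [(fibFun α S).IsContinuous (K S) (J S)]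
    [(ι F S).IsContinuous (J S) (FibSite.totalTopology F J)]
    [(ι G S).IsContinuous (K S) (FibSite.totalTopology G K)]
    [(ι F S).IsCocontinuous (J S) (FibSite.totalTopology F J)]
    [(ι G S).IsCocontinuous (K S) (FibSite.totalTopology G K)]
    [(CoGrothendieck.map α).IsContinuous (FibSite.totalTopology G K) (FibSite.totalTopology F J)]
    [((CoGrothendieck.map α).sheafPushforwardContinuous (Type u) (FibSite.totalTopology G K)
      (FibSite.totalTopology F J)).IsRightAdjoint]
    [((fibFun α S).sheafPushforwardContinuous (Type u) (K S) (J S)).IsRightAdjoint] :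
    (CoGrothendieck.map α).sheafPullback (Type u) (FibSite.totalTopology G K)
        (FibSite.totalTopology F J) ⋙ FibSite.restr F J (Type u) S ≅
      FibSite.restr G K (Type u) S ⋙ (fibFun α S).sheafPullback (Type u) (K S) (J S) :=
  Adjunction.leftAdjointUniq
    ((((CoGrothendieck.map α).sheafAdjunctionContinuous (Type u) (FibSite.totalTopology G K)
      (FibSite.totalTopology F J)).comp ((ι F S).sheafAdjunctionCocontinuous (Type u) (J S)
        (FibSite.totalTopology F J))).ofNatIsoRight (baseChangeIso J K α S))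
    (((ι G S).sheafAdjunctionCocontinuous (Type u) (K S) (FibSite.totalTopology G K)).comp
      ((fibFun α S).sheafAdjunctionContinuous (Type u) (K S) (J S)))

variable {J K}

theorem map_morphismOfSites (hF : FibSite.IsFibSite F J) (hG : FibSite.IsFibSite G K)
    (hα : ∀ S : 𝒮, ∃ (_ : (fibFun α S).IsContinuous (K S) (J S))
      (_ : ((fibFun α S).sheafPushforwardContinuous (Type u) (K S) (J S)).IsRightAdjoint),
      PreservesFiniteLimits ((fibFun α S).sheafPullback (Type u) (K S) (J S))) :
    ∃ (_ : (CoGrothendieck.map α).IsContinuous (FibSite.totalTopology G K)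
        (FibSite.totalTopology F J))
      (_ : ((CoGrothendieck.map α).sheafPushforwardContinuous (Type u)
        (FibSite.totalTopology G K) (FibSite.totalTopology F J)).IsRightAdjoint),
      PreservesFiniteLimits ((CoGrothendieck.map α).sheafPullback (Type u)
        (FibSite.totalTopology G K) (FibSite.totalTopology F J)) := by
  haveI hc := isContinuous_map α hF.isPreFibSite hG.isPreFibSite fun S => (hα S).1
  haveI : ((CoGrothendieck.map α).sheafPushforwardContinuous (Type u)
      (FibSite.totalTopology G K) (FibSite.totalTopology F J)).IsRightAdjoint := inferInstance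
  haveI := isContinuous_ι (J := J) hF.isPreFibSite
  haveI := isContinuous_ι (J := K) hG.isPreFibSite
  refine ⟨hc, inferInstance, preservesFiniteLimits_of_restr _ fun S => ?_⟩
  obtain ⟨h1, h2, h3⟩ := hα S
  haveI := h1
  haveI := h2
  haveI := h3
  haveI := isCocontinuous_ι hF.isPreFibSite S
  haveI := isCocontinuous_ι hG.isPreFibSite S
  haveI : (FibSite.restr G K (Type u) S).IsRightAdjoint := inferInstance
  exact preservesFiniteLimits_of_natIso (pullbackRestrIso J K α S).symm

end Groth.Agent.FibSiteLib
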