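import Groth.Agent.FibSiteLib.Morph
import Groth.Agent.FibSiteLib.Extensive

/-! Every sheaf on a fibre is cut out of pointed sheaves, and pointed sheaves are retracts of
restrictions of sheaves on the total site. -/

set_option backward.isDefEq.respectTransparency false
set_option backward.isDefEq.respectTransparency.types false
set_option linter.style.haveILetI false
set_option autoImplicit false

universe u

open CategoryTheory CategoryTheory.Limits Opposite Pseudofunctor Pseudofunctor.CoGrothendieck
open scoped CategoryTheory.Pseudofunctor.StrongTrans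

namespace Groth.Agent.FibSiteLib

theorem sheaf_hasBinaryCoproducts {C : Type u} [SmallCategory C] (L : GrothendieckTopology C) :
    HasColimitsOfShape (Discrete WalkingPair) (Sheaf L (Type u)) :=
  Sheaf.instHasColimitsOfShape

attribute [local instance 10000] sheaf_hasBinaryCoproducts

/-- The point sheaf. -/
noncomputable def One {C : Type u} [SmallCategory C] (L : GrothendieckTopology C) :
    Sheaf L (Type u) :=
  ⟨(Functor.const _).obj PUnit, by
    rw [isSheaf_iff_isSheaf_of_type]
    exact fun X R _ x _ => ⟨PUnit.unit, fun Y f _ => Subsingleton.elim (α := PUnit) _ _,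
      fun y _ => Subsingleton.elim (α := PUnit) _ _⟩⟩

section pointed
variable {C : Type u} [SmallCategory C] {L : GrothendieckTopology C}

/-- Adding a point. -/
noncomputable def addPt : Sheaf L (Type u) ⥤ Sheaf L (Type u) :=
  coprod.functor.flip.obj (One L)

/-- The point of `x ⨿ 1`. -/
noncomputable def pt (x : Sheaf L (Type u)) (W : Cᵒᵖ) : (x ⨿ One L).obj.obj W :=
  (coprod.inr : One L ⟶ x ⨿ One L).hom.app W PUnit.unit

theorem pt_natural (x : Sheaf L (Type u)) {W W' : Cᵒᵖ} (f : W ⟶ W') :
    (x ⨿ One L).obj.map f (pt x W) = pt x W' :=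
  (NatTrans.naturality_apply (coprod.inr : One L ⟶ x ⨿ One L).hom f PUnit.unit).symm

theorem map_pt {x y : Sheaf L (Type u)} (θ : x ⟶ y) (W : Cᵒᵖ) :
    (coprod.map θ (𝟙 (One L))).hom.app W (pt x W) = pt y W := by
  have h := ConcreteCategory.congr_hom (NatTrans.congr_app (congrArg InducedCategory.Hom.hom
    ((coprod.inr_map θ (𝟙 (One L))).trans (Category.id_comp _))) W) PUnit.unit
  exact h

theorem isPullback_app {P A B X : Sheaf L (Type u)} {h : P ⟶ A} {k : P ⟶ B} {f : A ⟶ X}
    {g : B ⟶ X} (sq : IsPullback h k f g) (W : Cᵒᵖ) :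
    IsPullback (h.hom.app W) (k.hom.app W) (f.hom.app W) (g.hom.app W) :=
  sq.map (sheafToPresheaf L (Type u) ⋙ (evaluation _ _).obj W)

/-- The map to the point. -/
noncomputable def toOne (x : Sheaf L (Type u)) : x ⟶ One L :=
  ⟨{ app := fun _ => TypeCat.ofHom fun _ => PUnit.unit }⟩

theorem bijective_comp_of_pointed {P Q : Cᵒᵖ ⥤ Type u} (u₀ : P ⟶ Q)
    (H : ∀ x : Sheaf L (Type u), Function.Bijective fun g : Q ⟶ (x ⨿ One L).obj => u₀ ≫ g)
    (a : Sheaf L (Type u)) : Function.Bijective fun g : Q ⟶ a.obj => u₀ ≫ g := by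
  have sq := (isPullback_inl_map (toOne a) (One L)).map (sheafToPresheaf L (Type u))
  haveI : Mono ((sheafToPresheaf L (Type u)).map (coprod.inl : a ⟶ a ⨿ One L)) := by
    haveI := mono_inl a (One L)
    infer_instance
  refine ⟨fun g g' e => ?_, fun c => ?_⟩
  · refine (cancel_mono ((sheafToPresheaf L (Type u)).map
      (coprod.inl : a ⟶ a ⨿ One L))).1 ((H a).1 ?_)
    exact ((Category.assoc _ _ _).symm.trans (congrArg (· ≫ _) e)).trans (Category.assoc _ _ _)
  · obtain ⟨g, hg⟩ := (H a).2 (c ≫ (sheafToPresheaf L (Type u)).map coprod.inl)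
    let q : Q ⟶ (One L).obj := { app := fun _ => TypeCat.ofHom fun _ => PUnit.unit }
    obtain ⟨l, hl, -⟩ := sq.exists_lift g q ((H (One L)).1 (by
      dsimp only at hg ⊢
      rw [← Category.assoc, hg, Category.assoc, sq.w, ← Category.assoc, ← Category.assoc]
      rfl))
    refine ⟨l, (cancel_mono ((sheafToPresheaf L (Type u)).map
      (coprod.inl : a ⟶ a ⨿ One L))).1 ?_⟩
    exact ((Category.assoc _ _ _).trans (congrArg (u₀ ≫ ·) hl)).trans hg

theorem isSheaf_comp_of_pointed {D : Type u} [SmallCategory D] {M : GrothendieckTopology D}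
    (m : D ⥤ C)
    (H : ∀ x : Sheaf L (Type u), Presieve.IsSheaf M (m.op ⋙ (x ⨿ One L).obj))
    (a : Sheaf L (Type u)) : Presieve.IsSheaf M (m.op ⋙ a.obj) := by
  intro U R hR x hx
  haveI := mono_inl a (One L)
  let j : a.obj ⟶ (a ⨿ One L).obj := (sheafToPresheaf L (Type u)).map coprod.inl
  have sq := fun W => isPullback_app (isPullback_inl_map (toOne a) (One L)) W
  have hx' := hx.map (Functor.whiskerLeft m.op j)
  obtain ⟨z, hz, -⟩ := H a R hR _ hx'
  have hpt : (coprod.map (toOne a) (𝟙 (One L))).hom.app (op (m.obj U)) z =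
      (coprod.inl : One L ⟶ One L ⨿ One L).hom.app (op (m.obj U)) PUnit.unit := by
    refine ((H (One L)).isSeparated _ hR).ext fun V r hr => ?_
    refine (NatTrans.naturality_apply (coprod.map (toOne a) (𝟙 (One L))).hom
      (m.map r).op z).symm.trans ?_
    refine Eq.trans ?_ (NatTrans.naturality_apply
      (coprod.inl : One L ⟶ One L ⨿ One L).hom (m.map r).op PUnit.unit)
    refine (congrArg _ (hz r hr)).trans ?_
    exact ConcreteCategory.congr_hom (sq (op (m.obj V))).w (x r hr)
  obtain ⟨t, ht, -⟩ := Types.exists_of_isPullback (sq (op (m.obj U))) z PUnit.unit hpt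
  have hinj : ∀ W, Function.Injective (j.app W) := fun W => by
    rw [← mono_iff_injective]
    infer_instance
  refine ⟨t, fun V r hr => hinj _ ?_, fun t' ht' => hinj _ ?_⟩
  · refine (NatTrans.naturality_apply j (m.map r).op t).trans ?_
    exact (congrArg _ ht).trans (hz r hr)
  · refine ((H a).isSeparated _ hR).ext fun V r hr => ?_
    refine (NatTrans.naturality_apply j (m.map r).op t').symm.trans ?_
    refine (congrArg _ (ht' r hr)).trans ?_
    refine (hz r hr).symm.trans ?_
    exact congrArg _ ht.symm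

theorem isSheaf_of_retract {M : GrothendieckTopology C} {A B : Cᵒᵖ ⥤ Type u} (i : A ⟶ B)
    (r : B ⟶ A) (h : i ≫ r = 𝟙 A) (hB : Presieve.IsSheaf M B) : Presieve.IsSheaf M A := by
  intro U R hR x hx
  have e : ∀ {W : Cᵒᵖ} (a : A.obj W), r.app W (i.app W a) = a := fun {W} a =>
    ConcreteCategory.congr_hom (NatTrans.congr_app h W) a
  obtain ⟨z, hz, huniq⟩ := hB R hR _ (hx.map i)
  refine ⟨r.app _ z, fun V f hf => ?_, fun y hy => ?_⟩
  · exact ((NatTrans.naturality_apply r f.op z).symm.trans (congrArg _ (hz f hf))).trans (e _)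
  · rw [← huniq (i.app _ y) fun V f hf =>
      (NatTrans.naturality_apply i f.op y).symm.trans (congrArg _ (hy f hf))]
    exact (e y).symm

end pointed

section
variable {𝒮 : Type u} [SmallCategory 𝒮] {F : Pseudofunctor (LocallyDiscrete 𝒮ᵒᵖ) Cat.{u, u}}
  {J : FibSite.Topologies F} {S : 𝒮}

open Classical in
theorem exists_secElt (x : Sheaf (J S) (Type u)) (W : F.obj ⟨op S⟩)
    (z : (x ⨿ One (J S)).obj.obj (op W)) :
    ∃ s : (ranι (x ⨿ One (J S)).obj).obj (op ((ι F S).obj W)),
      ∀ (U : F.obj ⟨op S⟩) (h : (ι F S).obj U ⟶ (ι F S).obj W), ranEval h s =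
        if hb : h.base = 𝟙 S then (x ⨿ One (J S)).obj.map (mkHom_one h hb).choose.op z
        else pt x (op U) :=
  exists_ran _ fun U U' w h => by
    have e : ((ι F S).map w ≫ h).base = h.base := Category.id_comp _
    by_cases hb : h.base = 𝟙 S
    · rw [dif_pos hb, dif_pos (e.trans hb), ← Functor.map_comp_apply, ← op_comp]
      congr 3
      refine congrArg Quiver.Hom.op (ι_map_injective (F := F) (S := S) ?_)
      rw [← (mkHom_one ((ι F S).map w ≫ h) (e.trans hb)).choose_spec, Functor.map_comp,
        ← (mkHom_one h hb).choose_spec]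
    · rw [dif_neg hb, dif_neg fun h' => hb (e.symm.trans h'), pt_natural]

/-- The section of the evaluation at the identity. -/
noncomputable def secPt (x : Sheaf (J S) (Type u)) :
    (x ⨿ One (J S)).obj ⟶ (ι F S).op ⋙ ranι (x ⨿ One (J S)).obj where
  app W := TypeCat.ofHom fun z => (exists_secElt x W.unop z).choose
  naturality W W' v := by
    ext z
    refine ran_ext fun U h => ?_
    refine ((exists_secElt x W'.unop _).choose_spec U h).trans (Eq.symm ?_)
    refine (ranEval_map h ((ι F S).map v.unop) _).trans ?_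
    refine ((exists_secElt x W.unop z).choose_spec U _).trans ?_
    have e : (h ≫ (ι F S).map v.unop).base = h.base := Category.comp_id _
    by_cases hb : h.base = 𝟙 S
    · rw [dif_pos hb, dif_pos (e.trans hb)]
      refine Eq.trans ?_ (Functor.map_comp_apply (x ⨿ One (J S)).obj v (mkHom_one h hb).choose.op z)
      congr 3
      refine Quiver.Hom.unop_inj (ι_map_injective ?_)
      change (ι F S).map (mkHom_one _ (e.trans hb)).choose =
        (ι F S).map ((mkHom_one h hb).choose ≫ v.unop)
      rw [← (mkHom_one _ (e.trans hb)).choose_spec, Functor.map_comp,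
        ← (mkHom_one h hb).choose_spec]
    · rw [dif_neg hb, dif_neg fun h' => hb (e.symm.trans h')]

/-- Evaluation at the identity. -/
noncomputable def evalId (a : (F.obj ⟨op S⟩)ᵒᵖ ⥤ Type u) : (ι F S).op ⋙ ranι a ⟶ a where
  app W := TypeCat.ofHom fun s => ranEval (𝟙 ((ι F S).obj W.unop)) s
  naturality W W' v := by
    ext s
    refine (ranEval_map _ ((ι F S).map v.unop) s).trans ?_
    refine Eq.trans ?_ (ranEval_ι_comp v.unop (𝟙 _) s)
    rw [Category.id_comp, Category.comp_id]

theorem secPt_evalId (x : Sheaf (J S) (Type u)) :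
    secPt x ≫ evalId (x ⨿ One (J S)).obj = 𝟙 _ := by
  ext W z
  refine ((exists_secElt x W.unop z).choose_spec _ _).trans ?_
  rw [dif_pos (show (𝟙 ((ι F S).obj W.unop) : _ ⟶ _).base = 𝟙 S from rfl)]
  have : (mkHom_one (𝟙 ((ι F S).obj W.unop)) rfl).choose = 𝟙 W.unop :=
    ι_map_injective ((mkHom_one (𝟙 ((ι F S).obj W.unop)) rfl).choose_spec.symm.trans
      ((ι F S).map_id _).symm)
  refine (congrArg (fun t : W.unop ⟶ W.unop => (x ⨿ One (J S)).obj.map (Quiver.Hom.op t) z) this).trans ?_
  exact Functor.map_id_apply (x ⨿ One (J S)).obj W z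

theorem secPt_natural {x y : Sheaf (J S) (Type u)} (θ : x ⟶ y) :
    (coprod.map θ (𝟙 (One (J S)))).hom ≫ secPt y =
      secPt x ≫ Functor.whiskerLeft (ι F S).op
        ((ι F S).op.ran.map (coprod.map θ (𝟙 (One (J S)))).hom) := by
  ext W z
  refine ran_ext fun U h => ?_
  refine ((exists_secElt y W.unop _).choose_spec U h).trans (Eq.symm ?_)
  refine (ranEval_natural _ h _).trans ?_
  refine (congrArg _ ((exists_secElt x W.unop z).choose_spec U h)).trans ?_
  by_cases hb : h.base = 𝟙 S
  · rw [dif_pos hb, dif_pos hb]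
    exact NatTrans.naturality_apply (coprod.map θ (𝟙 (One (J S)))).hom _ z
  · rw [dif_neg hb, dif_neg hb]
    exact map_pt θ (op U)

theorem W_iff_W_lan (hF : FibSite.IsPreFibSite F J) {R : (F.obj ⟨op S⟩)ᵒᵖ ⥤ Type u}
    {U : F.obj ⟨op S⟩} (u₀ : R ⟶ yoneda.obj U) :
    (J S).W u₀ ↔ (FibSite.totalTopology F J).W (((ι F S).op.lan (H := Type u)).map u₀) := by
  haveI := isContinuous_ι hF S
  haveI := isCocontinuous_ι hF S
  refine ⟨fun h Z hZ => (((ι F S).op.lanAdjunction (Type u)).map_comp_bijective_iff u₀ Z).2
    (h _ ((ι F S).op_comp_isSheaf_of_isSheaf (J S) (FibSite.totalTopology F J) Z hZ)),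
    fun h Z hZ => ?_⟩
  refine bijective_comp_of_pointed (L := J S) u₀ (fun x => ?_) ⟨Z, hZ⟩
  have hG := (((ι F S).op.lanAdjunction (Type u)).map_comp_bijective_iff u₀ _).1
    (h _ ((FibSite.coextend F J (Type u) S).obj (x ⨿ One (J S))).property)
  refine ⟨fun g g' e => ?_, fun c => ?_⟩
  · haveI : Mono (secPt x) := mono_of_mono_fac (secPt_evalId x)
    refine (cancel_mono (secPt x)).1 (hG.1 ?_)
    exact ((Category.assoc _ _ _).symm.trans (congrArg (· ≫ _) e)).trans (Category.assoc _ _ _)
  · obtain ⟨g, hg⟩ := hG.2 (c ≫ secPt x)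
    refine ⟨g ≫ evalId _, (Category.assoc _ _ _).symm.trans ?_⟩
    exact ((congrArg (· ≫ evalId _) hg).trans (Category.assoc _ _ _)).trans
      ((congrArg (c ≫ ·) (secPt_evalId x)).trans (Category.comp_id c))

variable {G : Pseudofunctor (LocallyDiscrete 𝒮ᵒᵖ) Cat.{u, u}} {K : FibSite.Topologies G}
  (α : G ⟶ F) (S)

theorem isContinuous_fibFun (hF : FibSite.IsPreFibSite F J) (hG : FibSite.IsPreFibSite G K)
    [(CoGrothendieck.map α).IsContinuous (FibSite.totalTopology G K)
      (FibSite.totalTopology F J)] : (fibFun α S).IsContinuous (K S) (J S) := by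
  haveI := isContinuous_ι hG S
  haveI := isCocontinuous_ι hF S
  refine ⟨fun a => isSheaf_comp_of_pointed (fibFun α S) (fun x => ?_) a⟩
  refine isSheaf_of_retract (Functor.whiskerLeft (fibFun α S).op (secPt x))
    (Functor.whiskerLeft (fibFun α S).op (evalId _))
    (by rw [← Functor.whiskerLeft_comp, secPt_evalId, Functor.whiskerLeft_id']) ?_
  haveI := Functor.isContinuous_comp (ι G S) (CoGrothendieck.map α) (K S)
    (FibSite.totalTopology G K) (FibSite.totalTopology F J)
  haveI := Functor.isContinuous_of_iso (mapιIso α S) (K S) (FibSite.totalTopology F J)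
  exact (fibFun α S ⋙ ι F S).op_comp_isSheaf_of_types (K S) (FibSite.totalTopology F J)
    ((FibSite.coextend F J (Type u) S).obj (x ⨿ One (J S)))

end

section
variable {𝒮 : Type u} [SmallCategory 𝒮] {F G : Pseudofunctor (LocallyDiscrete 𝒮ᵒᵖ) Cat.{u, u}}
  {J : FibSite.Topologies F} {K : FibSite.Topologies G} (α : G ⟶ F) (S : 𝒮)

/-- The section, as a map of functors. -/
noncomputable def secNat [(ι G S).IsContinuous (K S) (FibSite.totalTopology G K)]
    [(ι G S).IsCocontinuous (K S) (FibSite.totalTopology G K)] :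
    addPt ⟶ addPt ⋙ FibSite.coextend G K (Type u) S ⋙ FibSite.restr G K (Type u) S where
  app x := ⟨secPt x⟩
  naturality _ _ θ := InducedCategory.hom_ext (secPt_natural θ)

/-- The retraction, as a map of functors. -/
noncomputable def evalNat [(ι G S).IsContinuous (K S) (FibSite.totalTopology G K)]
    [(ι G S).IsCocontinuous (K S) (FibSite.totalTopology G K)] :
    addPt ⋙ FibSite.coextend G K (Type u) S ⋙ FibSite.restr G K (Type u) S ⟶
      (addPt (L := K S)) where
  app x := ⟨evalId _⟩
  naturality x y θ := by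
    ext W s
    exact ranEval_natural (coprod.map θ (𝟙 (One (K S)))).hom (𝟙 _) s

theorem secNat_evalNat [(ι G S).IsContinuous (K S) (FibSite.totalTopology G K)]
    [(ι G S).IsCocontinuous (K S) (FibSite.totalTopology G K)] :
    secNat (K := K) S ≫ evalNat S = 𝟙 _ := by
  ext x : 2
  exact InducedCategory.hom_ext (secPt_evalId x)

theorem fibre_morphismOfSites (hF : FibSite.IsFibSite F J) (hG : FibSite.IsFibSite G K)
    (hc : (CoGrothendieck.map α).IsContinuous (FibSite.totalTopology G K)
      (FibSite.totalTopology F J))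
    [((CoGrothendieck.map α).sheafPushforwardContinuous (Type u) (FibSite.totalTopology G K)
      (FibSite.totalTopology F J)).IsRightAdjoint]
    [PreservesFiniteLimits ((CoGrothendieck.map α).sheafPullback (Type u)
      (FibSite.totalTopology G K) (FibSite.totalTopology F J))] :
    ∃ (_ : (fibFun α S).IsContinuous (K S) (J S))
      (_ : ((fibFun α S).sheafPushforwardContinuous (Type u) (K S) (J S)).IsRightAdjoint),
      PreservesFiniteLimits ((fibFun α S).sheafPullback (Type u) (K S) (J S)) := by
  haveI hS := isContinuous_fibFun S α hF.isPreFibSite hG.isPreFibSite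
  haveI : ((fibFun α S).sheafPushforwardContinuous (Type u) (K S) (J S)).IsRightAdjoint :=
    inferInstance
  refine ⟨hS, inferInstance, ?_⟩
  haveI := isContinuous_ι hF.isPreFibSite S
  haveI := isContinuous_ι hG.isPreFibSite S
  haveI := isCocontinuous_ι hF.isPreFibSite S
  haveI := isCocontinuous_ι hG.isPreFibSite S
  haveI : (FibSite.restr F J (Type u) S).IsRightAdjoint := inferInstance
  haveI : (FibSite.restr G K (Type u) S).IsRightAdjoint := inferInstance
  haveI : (FibSite.coextend G K (Type u) S).IsRightAdjoint :=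
    ⟨_, ⟨(ι G S).sheafAdjunctionCocontinuous (Type u) (K S) (FibSite.totalTopology G K)⟩⟩
  let T := (fibFun α S).sheafPullback (Type u) (K S) (J S)
  haveI : T.IsLeftAdjoint :=
    ((fibFun α S).sheafAdjunctionContinuous (Type u) (K S) (J S)).isLeftAdjoint
  let M := FibSite.restr G K (Type u) S ⋙ T
  haveI : PreservesFiniteLimits M :=
    preservesFiniteLimits_of_natIso (pullbackRestrIso J K α S)
  haveI : PreservesLimitsOfShape (Discrete.{0} PEmpty) M :=
    PreservesFiniteLimits.preservesFiniteLimits _
  haveI : PreservesLimitsOfShape WalkingCospan M := PreservesFiniteLimits.preservesFiniteLimits _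
  haveI : PreservesLimit (Functor.empty.{0} (FibSite.TotSh G K (Type u))) M :=
    PreservesLimitsOfShape.preservesLimit (J := Discrete.{0} PEmpty)
  haveI : PreservesLimit (Functor.empty.{0} (Sheaf (K S) (Type u))) T := by
    refine preservesTerminal_of_iso T ?_
    exact T.mapIso (PreservesTerminal.iso (FibSite.restr G K (Type u) S)).symm ≪≫
      PreservesTerminal.iso M
  haveI : PreservesLimitsOfShape (Discrete.{0} PEmpty) T :=
    preservesLimitsOfShape_pempty_of_preservesTerminal T
  haveI : PreservesLimitsOfShape WalkingCospan T := by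
    refine preservesPullbacks_of_isPullback T fun {P A B X h k f g} sq => ?_
    refine isPullback_of_coprod_map (by rw [← T.map_comp, sq.w, T.map_comp])
      (T.obj (One (K S))) ?_
    have h1 : IsPullback ((addPt ⋙ T).map h) ((addPt ⋙ T).map k) ((addPt ⋙ T).map f)
        ((addPt ⋙ T).map g) := by
      refine isPullback_of_retract
        (Functor.whiskerRight (secNat (K := K) S) T) (Functor.whiskerRight (evalNat S) T)
        ?_ sq.w ?_
      · rw [← Functor.whiskerRight_comp, secNat_evalNat]
        exact Functor.whiskerRight_id' T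
      · haveI : PreservesLimit (cospan
            ((FibSite.coextend G K (Type u) S).map (coprod.map f (𝟙 (One (K S)))))
            ((FibSite.coextend G K (Type u) S).map (coprod.map g (𝟙 (One (K S)))))) M :=
          PreservesLimitsOfShape.preservesLimit (J := WalkingCospan)
        exact ((coprod_map_isPullback sq (One (K S))).map (FibSite.coextend G K (Type u) S)).map M
    have nat : ∀ {A B : Sheaf (K S) (Type u)} (θ : A ⟶ B),
        coprod.map (T.map θ) (𝟙 _) ≫ coprodComparison T B (One (K S)) =
          coprodComparison T A (One (K S)) ≫ T.map (coprod.map θ (𝟙 _)) := fun θ => by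
      rw [coprodComparison_natural, T.map_id]
    exact IsPullback.of_iso h1 (asIso (coprodComparison T P (One (K S)))).symm
      (asIso (coprodComparison T A (One (K S)))).symm
      (asIso (coprodComparison T B (One (K S)))).symm
      (asIso (coprodComparison T X (One (K S)))).symm
      (by simp [addPt, ← reassoc_of% (nat h)]) (by simp [addPt, ← reassoc_of% (nat k)])
      (by simp [addPt, ← reassoc_of% (nat f)]) (by simp [addPt, ← reassoc_of% (nat g)])
  exact preservesFiniteLimits_of_preservesTerminal_and_pullbacks T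

end
end Groth.Agent.FibSiteLib
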